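import Cfsg.Agent.LargeExtra.Local
import Cfsg.Agent.J2.ExtQuot

/-!
# From `Large Q z` to subgroups of `C_G(z)` (helper360)

`Q' = Q.subgroupOf (centralizer {z})` is normal, extraspecial, contains its centraliser, and
`C_G(z) ⧸ Q' ≃* p.H` (the image of `C_G(z)` in `GL(V)`).
-/

set_option autoImplicit false

namespace Cfsg.Agent.LargeExtra.Nine.ToCent

open Cfsg.Agent.Co2Type.Quad Cfsg.Agent.LargeExtra.Local Cfsg.Agent.LargeExtra.Base

variable {G : Type*} [Group G] {Q : Subgroup G} {z : G}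

theorem le_cent (h : Large Q z) : Q ≤ Subgroup.centralizer ({z} : Set G) := fun x hx =>
  Subgroup.mem_centralizer_singleton_iff.2 (h.comm_z x hx)

/-- `Q` as a subgroup of `C_G(z)`. -/
theorem normal (h : Large Q z) : (Q.subgroupOf (Subgroup.centralizer ({z} : Set G))).Normal where
  conj_mem := by
    intro x hx g
    rw [Subgroup.mem_subgroupOf] at hx ⊢
    exact h.conj_mem g (Subgroup.mem_centralizer_singleton_iff.1 g.2) x hx

theorem card_subgroupOf (h : Large Q z) :
    Nat.card ↥(Q.subgroupOf (Subgroup.centralizer ({z} : Set G))) = Nat.card Q :=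
  Nat.card_congr (Subgroup.subgroupOfEquivOfLe (le_cent h)).toEquiv

/-- `Q` is extraspecial as soon as it is finite and not `⟨z⟩`. -/
theorem isExtraspecial_Q [Finite Q] (h : Large Q z) (h2 : Nat.card Q ≠ 2) :
    Cfsg.IsExtraspecial 2 Q := by
  refine Cfsg.Agent.J2.ExtQuot.isExtraspecial_two (isPGroup h) h.card_center
    (fun x => by rw [pow_two]; exact h.sq_mem x) ?_
  by_contra hcon
  push Not at hcon
  apply h2
  rw [← h.card_center]
  have : (Subgroup.center Q : Subgroup Q) = ⊤ := by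
    rw [eq_top_iff]
    intro x _
    rw [Subgroup.mem_center_iff]
    intro y
    exact hcon y x
  rw [this]
  exact (Nat.card_congr Subgroup.topEquiv.toEquiv).symm

theorem isExtraspecial [Finite Q] (h : Large Q z) (h2 : Nat.card Q ≠ 2) :
    Cfsg.IsExtraspecial 2 ↥(Q.subgroupOf (Subgroup.centralizer ({z} : Set G))) :=
  Cfsg.Agent.J2.ExtQuot.isExtraspecial_of_equiv
    (Subgroup.subgroupOfEquivOfLe (le_cent h)).symm (isExtraspecial_Q h h2)

theorem centralizer_le (h : Large Q z) :
    Subgroup.centralizer ((Q.subgroupOf (Subgroup.centralizer ({z} : Set G)) :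
      Subgroup (Subgroup.centralizer ({z} : Set G))) : Set (Subgroup.centralizer ({z} : Set G))) ≤
      Q.subgroupOf (Subgroup.centralizer ({z} : Set G)) := by
  intro g hg
  rw [Subgroup.mem_subgroupOf]
  refine h.self g (Subgroup.mem_centralizer_singleton_iff.1 g.2) fun x hx => ?_
  have := Subgroup.mem_centralizer_iff.1 hg ⟨x, le_cent h hx⟩ (Subgroup.mem_subgroupOf.2 hx)
  exact (congrArg (fun c : Subgroup.centralizer ({z} : Set G) => (c : G)) this).symm

theorem ker_act [Finite Q] (h : Large Q z) :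
    h.act.ker = Q.subgroupOf (Subgroup.centralizer ({z} : Set G)) := by
  ext g
  rw [MonoidHom.mem_ker, Subgroup.mem_subgroupOf]
  exact ⟨h.mem_of_act g, h.act_mem g⟩

/-- `C_G(z) / Q` is the image of `C_G(z)` in `GL(V)`. -/
theorem nonempty_quot [Finite Q] (h : Large Q z)
    [(Q.subgroupOf (Subgroup.centralizer ({z} : Set G))).Normal] :
    Nonempty (Subgroup.centralizer ({z} : Set G) ⧸ Q.subgroupOf (Subgroup.centralizer ({z} : Set G)) ≃*
      ↥h.act.range) :=
  ⟨(QuotientGroup.quotientMulEquivOfEq (ker_act h).symm).trans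
    (QuotientGroup.quotientKerEquivRange h.act)⟩

/-- `Q ∩ A` as an elementary abelian subgroup of `Q`. -/
theorem exists_elem [Finite G] {A : Subgroup G} {a : G} (p : Pair Q z A a) :
    ∃ E : Subgroup ↥(Q.subgroupOf (Subgroup.centralizer ({z} : Set G))),
      Cfsg.IsElementaryAbelian 2 E ∧ Nat.card E = 2 * Nat.card p.D := by
  classical
  set C := Subgroup.centralizer ({z} : Set G) with hC
  refine ⟨((A ⊓ Q).subgroupOf C).subgroupOf (Q.subgroupOf C), ⟨⟨⟨?_⟩⟩, ?_⟩, ?_⟩
  · intro x y
    apply Subtype.ext; apply Subtype.ext; apply Subtype.ext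
    have hx := Subgroup.mem_inf.1 (Subgroup.mem_subgroupOf.1 (Subgroup.mem_subgroupOf.1 x.2))
    have hy := Subgroup.mem_inf.1 (Subgroup.mem_subgroupOf.1 (Subgroup.mem_subgroupOf.1 y.2))
    exact p.comm_D hx.2 hx.1 hy.2 hy.1
  · intro x hx
    apply Subtype.ext; apply Subtype.ext
    have hx := Subgroup.mem_inf.1 (Subgroup.mem_subgroupOf.1 (Subgroup.mem_subgroupOf.1 hx))
    have h2 := p.sq_D hx.2 hx.1
    rw [pow_two]
    exact h2
  · have h1 : (A ⊓ Q).subgroupOf C ≤ Q.subgroupOf C := fun x hx =>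
      Subgroup.mem_subgroupOf.2 (Subgroup.mem_inf.1 (Subgroup.mem_subgroupOf.1 hx)).2
    rw [Nat.card_congr (Subgroup.subgroupOfEquivOfLe h1).toEquiv,
      Nat.card_congr (Subgroup.subgroupOfEquivOfLe (inf_le_right.trans (le_cent p.lz))).toEquiv]
    exact card_sub p.lz p.z_mem

end Cfsg.Agent.LargeExtra.Nine.ToCent
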