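import Cfsg.Prelude.Def_ClassificationK
import Cfsg.Prelude.Def_Transfer
import Cfsg.Prelude.Def_LieTwisted
import Cfsg.Prelude.Def_Spor_Conway
import Cfsg.Prelude.Def_Spor_Th
import Cfsg.Prelude.Def_Spor_HN
import Cfsg.Prelude.Def_Spor_Mathieu
import Cfsg.Prelude.Def_Spor_He
import Cfsg.Agent.LargeExtra.Nine.Iface
import Cfsg.Agent.LargeExtra.Tri.Irred
import Cfsg.Agent.LargeExtra.AsmSeven
import Cfsg.Agent.LargeExtra.KillNine.Final
import Cfsg.Agent.LargeExtra.Enum9.TenConf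

/-!
# Assembly of S1763 (helper71)

`Concl G` is the conclusion of S1763; `Recs G` collects the recognition theorems (one field per piece);
`main : Recs G → (conclusion of S1761) → Concl G`.
-/

set_option autoImplicit false

namespace Cfsg.Agent.LargeExtra.Nine.Assembly

open Cfsg.Agent.Co2Type.Quad Cfsg.Agent.LargeExtra.Base Cfsg.Agent.LargeExtra.SiegelOrbit
open Cfsg.Agent.LargeExtra.Nine Cfsg.Agent.LargeExtra.Tri.FreeMod

/-- the conclusion of S1763 -/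
def Concl (G : Type*) [Group G] : Prop :=
    (∃ (F : Type) (_ : Field F) (_ : Fintype F), Fintype.card F = 2 ∧ (Nonempty (G ≃* Matrix.ProjectiveSpecialLinearGroup (Fin 6) F) ∨
        Nonempty (G ≃* Cfsg.POmega F (Cfsg.quadFormPlus 4 F)) ∨
        (∃ a b : F, (∀ z₁ z₂ : F, z₁ ^ 2 + a * z₁ * z₂ + b * z₂ ^ 2 = 0 → z₁ = 0 ∧ z₂ = 0) ∧
          Nonempty (G ≃* Cfsg.POmega F (Cfsg.quadFormMinus 3 F a b))))) ∨
      (∃ (F : Type) (_ : Field F) (_ : Fintype F), Fintype.card F = 4 ∧ Nonempty (G ≃* Cfsg.PSU 6 F 2)) ∨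
      (∃ (K : Type) (_ : Field K) (_ : Fintype K), Fintype.card K = 8 ∧ Nonempty (G ≃* ↥(Cfsg.Lie.twistedD4 K 2))) ∨
      (∃ (F : Type) (_ : Field F) (_ : Fintype F), Fintype.card F = 3 ∧ Nonempty (G ≃* Cfsg.POmega F (Cfsg.quadFormPlus 4 F))) ∨
      Cfsg.Spor.IsoCo1 G ∨ Cfsg.Spor.IsoCo2 G ∨ Cfsg.Spor.IsoTh G ∨ Cfsg.Spor.IsoHN G

/-- the pieces: every field is a theorem of some owner (bb R12, #3647) -/
structure Recs (G : Type*) [Group G] : Prop where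
  /-- case I: `z` weakly closed in `Q` -/
  caseOne : ∀ (z : G), orderOf z = 2 →
    Cfsg.IsExtraspecial 2
      ↥(Cfsg.generalizedFittingSubgroup ↥(Subgroup.centralizer ({z} : Set G))) →
    Nat.card ↥(Cfsg.generalizedFittingSubgroup ↥(Subgroup.centralizer ({z} : Set G))) = 2 ^ 9 →
    (∀ g : G, g * z * g⁻¹ ∈ (Cfsg.generalizedFittingSubgroup
      ↥(Subgroup.centralizer ({z} : Set G))).map (Subgroup.centralizer ({z} : Set G)).subtype →
      g * z * g⁻¹ = z) →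
    (∃ (F : Type) (_ : Field F) (_ : Fintype F), Fintype.card F = 4 ∧ Nonempty (G ≃* Cfsg.PSU 6 F 2)) ∨
      Cfsg.Spor.IsoCo2 G
  /-- `|D̃| = 2` (k1 and `Co₁`) -/
  dOne : ∀ (Q A : Subgroup G) (z a : G) (p : Pair Q z A a), O2 p.lz → Nat.card Q = 2 ^ 9 →
    Nat.card p.D = 2 → Cfsg.Spor.IsoCo1 G
  po83 : ∀ (Q A : Subgroup G) (z a : G) (p : Pair Q z A a) (φ : Coord p.lz), O2 p.lz →
    Nat.card Q = 2 ^ 9 → IsConf p φ confPO83 →
    ∃ (F : Type) (_ : Field F) (_ : Fintype F), Fintype.card F = 3 ∧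
      Nonempty (G ≃* Cfsg.POmega F (Cfsg.quadFormPlus 4 F))
  oplus : ∀ (Q A : Subgroup G) (z a : G) (p : Pair Q z A a) (φ : Coord p.lz), O2 p.lz →
    Nat.card Q = 2 ^ 9 → IsConf p φ confOplus →
    ∃ (F : Type) (_ : Field F) (_ : Fintype F), Fintype.card F = 2 ∧
      Nonempty (G ≃* Cfsg.POmega F (Cfsg.quadFormPlus 4 F))
  ominus : ∀ (Q A : Subgroup G) (z a : G) (p : Pair Q z A a) (φ : Coord p.lz), O2 p.lz →
    Nat.card Q = 2 ^ 9 → IsConf p φ confOminus →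
    ∃ (F : Type) (_ : Field F) (_ : Fintype F), Fintype.card F = 2 ∧
      ∃ a b : F, (∀ z₁ z₂ : F, z₁ ^ 2 + a * z₁ * z₂ + b * z₂ ^ 2 = 0 → z₁ = 0 ∧ z₂ = 0) ∧
          Nonempty (G ≃* Cfsg.POmega F (Cfsg.quadFormMinus 3 F a b))
  d4 : ∀ (Q A : Subgroup G) (z a : G) (p : Pair Q z A a) (φ : Coord p.lz), O2 p.lz →
    Nat.card Q = 2 ^ 9 → IsConf p φ confD4 →
    ∃ (K : Type) (_ : Field K) (_ : Fintype K), Fintype.card K = 8 ∧
      Nonempty (G ≃* ↥(Cfsg.Lie.twistedD4 K 2))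
  hn : ∀ (Q A : Subgroup G) (z a : G) (p : Pair Q z A a) (φ : Coord p.lz), O2 p.lz →
    Nat.card Q = 2 ^ 9 → IsConf p φ confHN → Cfsg.Spor.IsoHN G
  th : ∀ (Q A : Subgroup G) (z a : G) (p : Pair Q z A a) (φ : Coord p.lz), O2 p.lz →
    Nat.card Q = 2 ^ 9 → IsConf p φ confTh → Cfsg.Spor.IsoTh G

/-- Case II. -/
theorem caseTwo {G : Type*} [Group G] [Finite G] (R : Recs G) (hG : ∀ H : Subgroup G, H.index ≠ 2)
    {Q A : Subgroup G} {z a : G} (p : Pair Q z A a) (hO : O2 p.lz) (hQ : Nat.card Q = 2 ^ 9)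
    (hirr : Cfsg.Agent.LargeExtra.SiegFam.Inst.Irr p) : Concl G := by
  rcases Tri.CaseTwo.case_two hG p hQ hirr with h1 | ⟨h1, h2⟩
  · exact Or.inr (Or.inr (Or.inr (Or.inr (Or.inl (R.dOne Q A z a p hO hQ h1)))))
  · obtain ⟨x, hx⟩ := h2
    obtain ⟨φ, h⟩ := Enum9.TenConf.exists_conf p hQ hirr hx
    rcases h with h | h | h | h | h | h | h | h | h | h
    · exact Or.inr (Or.inr (Or.inr (Or.inl (R.po83 Q A z a p φ hO hQ h))))
    · obtain ⟨F, i1, i2, h3, h4⟩ := R.oplus Q A z a p φ hO hQ h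
      exact Or.inl ⟨F, i1, i2, h3, Or.inr (Or.inl h4)⟩
    · obtain ⟨F, i1, i2, h3, h4⟩ := R.ominus Q A z a p φ hO hQ h
      exact Or.inl ⟨F, i1, i2, h3, Or.inr (Or.inr h4)⟩
    · exact Or.inr (Or.inr (Or.inl (R.d4 Q A z a p φ hO hQ h)))
    · exact Or.inr (Or.inr (Or.inr (Or.inr (Or.inr (Or.inr (Or.inr (R.hn Q A z a p φ hO hQ h)))))))
    · exact Or.inr (Or.inr (Or.inr (Or.inr (Or.inr (Or.inr (Or.inl (R.th Q A z a p φ hO hQ h)))))))
    · exact (KillNine.Final.killK2 p φ h).elim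
    · exact (KillNine.Final.killK3 p φ h).elim
    · exact (KillNine.Final.killK4 p φ h).elim
    · exact (KillNine.Final.killK5 p φ h).elim

/-- **S1763 from the pieces.** -/
theorem main {G : Type*} [Group G] [Finite G] [IsSimpleGroup G] (R : Recs G)
    (hG : ¬ IsMulCommutative G) (z : G) (hz : orderOf z = 2)
    (hE : Cfsg.IsExtraspecial 2 ↥(Cfsg.generalizedFittingSubgroup ↥(Subgroup.centralizer ({z} : Set G))))
    (hcard : Nat.card ↥(Cfsg.generalizedFittingSubgroup ↥(Subgroup.centralizer ({z} : Set G))) = 2 ^ 9)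
    (h1761 : (∃ (F : Type) (_ : Field F) (_ : Fintype F), Fintype.card F = 2 ∧ Nonempty (G ≃* Matrix.ProjectiveSpecialLinearGroup (Fin (4 + 2)) F)) ∨
      (4 = 3 ∧ (Cfsg.Spor.IsoM24 G ∨ Cfsg.Spor.IsoHe G)) ∨
      (∀ A : Subgroup ↥(Subgroup.centralizer ({z} : Set G)), A.Normal → Subgroup.zpowers (⟨z, Subgroup.mem_centralizer_singleton_iff.mpr rfl⟩ : ↥(Subgroup.centralizer ({z} : Set G))) ≤ A →
        A ≤ Cfsg.generalizedFittingSubgroup ↥(Subgroup.centralizer ({z} : Set G)) → A = Subgroup.zpowers (⟨z, Subgroup.mem_centralizer_singleton_iff.mpr rfl⟩ : ↥(Subgroup.centralizer ({z} : Set G))) ∨ A = Cfsg.generalizedFittingSubgroup ↥(Subgroup.centralizer ({z} : Set G)))) :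
    Concl G := by
  classical
  rcases h1761 with ⟨F, i1, i2, h2, h3⟩ | ⟨h2, -⟩ | hI
  · exact Or.inl ⟨F, i1, i2, h2, Or.inl h3⟩
  · exact absurd h2 (by norm_num)
  have h := large_of_genFitting z hz hE
  have hQ : Nat.card ((Cfsg.generalizedFittingSubgroup ↥(Subgroup.centralizer ({z} : Set G))).map
      (Subgroup.centralizer ({z} : Set G)).subtype) = 2 ^ 9 := by
    rw [← hcard]
    exact Subgroup.card_map_of_injective (Subgroup.subtype_injective _)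
  by_cases hwc : ∀ g : G, g * z * g⁻¹ ∈ (Cfsg.generalizedFittingSubgroup
      ↥(Subgroup.centralizer ({z} : Set G))).map (Subgroup.centralizer ({z} : Set G)).subtype →
      g * z * g⁻¹ = z
  · rcases R.caseOne z hz hE hcard hwc with h1 | h1
    · exact Or.inr (Or.inl h1)
    · exact Or.inr (Or.inr (Or.inr (Or.inr (Or.inr (Or.inl h1)))))
  · push Not at hwc
    obtain ⟨g, hg, hgz⟩ := hwc
    have p := pair_of_conj h hg hgz
    exact caseTwo R (AsmSeven.index_ne_two hG) p (o2_of_genFitting p.lz rfl) hQ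
      (Tri.Irred.irr p hI)

end Cfsg.Agent.LargeExtra.Nine.Assembly
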