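import Cfsg.Agent.LargeExtra.Nine.UBridgeB

/-!
# S1763 case I: from `UInput` to codes (helper71), part 3

Main theorem `exists_coord`: coordinates `φ` in which `H` contains `N₀ = U₄(2)` (the matrices `genN`) and the
U-lines are the 45 lines `T45`, or the 315 lines `T45 ∪ TA4` (then `H` contains `Sp₆(2)`).
-/

set_option autoImplicit false

namespace Cfsg.Agent.LargeExtra.Nine.UCoord

open Cfsg.Agent.Co2Type.Quad Cfsg.Agent.LargeExtra.Nine Cfsg.Agent.LargeExtra.Nine.UTree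
  Cfsg.Agent.LargeExtra.Nine.UCode Cfsg.Agent.LargeExtra.Nine.UEnum Cfsg.Agent.LargeExtra.Nine.UFrame
  Cfsg.Agent.LargeExtra.Nine.Frame Cfsg.Agent.LargeExtra.Nine.UBridge

variable {G : Type*} [Group G] {Q : Subgroup G} {z : G} {h : Large Q z}

/-! ### `IsU` -/

theorem _root_.Cfsg.Agent.LargeExtra.Nine.IsU.symm {t : G} {u v : h.V} (hu : IsU h t u v) :
    IsU h t v u where
  conj := hu.conj
  u0 := hu.v0
  v0 := hu.u0
  uv := hu.uv.symm
  qu := hu.qv
  qv := hu.qu
  b := by rw [h.b_comm]; exact hu.b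
  act := by
    obtain ⟨ht, ha⟩ := hu.act
    refine ⟨ht, fun x => ?_⟩
    have := ha x
    show h.act ⟨t, ht⟩ x = x + h.b x v • u + h.b x u • v
    rw [this]
    abel

theorem _root_.Cfsg.Agent.LargeExtra.Nine.IsU.add {t : G} {u v : h.V} (hu : IsU h t u v) :
    IsU h t u (u + v) where
  conj := hu.conj
  u0 := hu.u0
  v0 := fun h0 => hu.uv ((add_eq_zero_iff h).1 h0)
  uv := by
    intro h1
    apply hu.v0
    have h2 := congrArg (u + ·) h1
    simp only [← add_assoc, h.add_self, zero_add] at h2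
    exact h2.symm
  qu := hu.qu
  qv := by rw [h.q_add', hu.qu, hu.qv, hu.b]; decide
  b := by rw [map_add, h.b_self, hu.b, add_zero]
  act := by
    obtain ⟨ht, ha⟩ := hu.act
    refine ⟨ht, fun x => ?_⟩
    have e := h.add_self (h.b x u • u)
    have e0 : x + h.b x u • (u + v) + h.b x (u + v) • u =
        x + h.b x u • v + h.b x v • u + (h.b x u • u + h.b x u • u) := by
      rw [map_add, smul_add, add_smul]; abel
    show h.act ⟨t, ht⟩ x = x + h.b x u • (u + v) + h.b x (u + v) • u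
    rw [e0, e, add_zero]
    exact ha x

theorem _root_.Cfsg.Agent.LargeExtra.Nine.IsU.conj' {t : G} {u v : h.V} (hu : IsU h t u v)
    (c : Subgroup.centralizer ({z} : Set G)) :
    IsU h ((c : G) * t * (c : G)⁻¹) (h.act c u) (h.act c v) where
  conj := by
    obtain ⟨g, hg⟩ := hu.conj
    exact ⟨c * g, by rw [← hg]; group⟩
  u0 := fun h0 => hu.u0 ((map_eq_zero_iff _ (h.act c).injective).1 h0)
  v0 := fun h0 => hu.v0 ((map_eq_zero_iff _ (h.act c).injective).1 h0)
  uv := fun h0 => hu.uv ((h.act c).injective h0)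
  qu := by rw [h.q_act]; exact hu.qu
  qv := by rw [h.q_act]; exact hu.qv
  b := by rw [h.b_act]; exact hu.b
  act := by
    obtain ⟨ht, ha⟩ := hu.act
    have hmem : (c : G) * t * (c : G)⁻¹ ∈ Subgroup.centralizer ({z} : Set G) :=
      Subgroup.mul_mem _ (Subgroup.mul_mem _ c.2 ht) (Subgroup.inv_mem _ c.2)
    refine ⟨hmem, fun x => ?_⟩
    have e : (⟨(c : G) * t * (c : G)⁻¹, hmem⟩ : Subgroup.centralizer ({z} : Set G)) =
        c * ⟨t, ht⟩ * c⁻¹ := rfl
    rw [e, map_mul, map_mul]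
    show h.act c (h.act ⟨t, ht⟩ (h.act c⁻¹ x)) = _
    rw [ha]
    have e1 : h.act c (h.act c⁻¹ x) = x := by
      have : (h.act c * h.act c⁻¹) x = x := by rw [← map_mul, mul_inv_cancel, map_one]; rfl
      exact this
    have e2 : ∀ w, h.b (h.act c⁻¹ x) w = h.b x (h.act c w) := by
      intro w
      rw [← h.b_act c (h.act c⁻¹ x) w, e1]
    rw [map_add, map_add, map_smul, map_smul, e1, e2, e2]

/-- a relation on codes closed under change of basis -/
theorem rel_cl {R : Nat → Nat → Prop} (hs : ∀ {u v}, R u v → R v u)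
    (ha : ∀ {u v}, R u v → R u (Nat.xor u v)) {u v : Nat} (hu : R u v) : R (cl u v).1 (cl u v).2 := by
  have h1 := hs hu
  have h2 := ha hu
  have h3 := ha h1
  rw [xor_comm' v u] at h3
  unfold cl
  simp only
  split_ifs
  · exact hu
  · exact h2
  · exact hs h2
  · exact h1
  · exact h3
  · exact hs h3

/-! ### the base data -/

/-- the matrices of elements of `H` -/
def MM (φ : Coord h) (L : List Nat) : Prop := Good8 L ∧ ∃ f ∈ h.act.range, Acts φ L f

/-- the U-lines in codes -/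
def UU (φ : Coord h) (u v : Nat) : Prop := u < 256 ∧ v < 256 ∧ ∃ s, IsU h s (sv φ u) (sv φ v)

structure BaseData (φ : Coord h) (Qf : G → Subgroup G) (t : G) : Prop where
  isU : IsU h t (sv φ 1) (sv φ 2)
  xw : ∀ y ∈ Qf t, ∀ hy : y ∈ Subgroup.centralizer ({z} : Set G), ∃ Y ∈ XW, Acts φ Y (h.act ⟨y, hy⟩)
  xg : ∀ X ∈ XG, ∃ y ∈ Qf t, ∃ hy : y ∈ Subgroup.centralizer ({z} : Set G), Acts φ X (h.act ⟨y, hy⟩)
  gen : ∀ g ∈ genN, ∃ f ∈ h.act.range, Acts φ g f

theorem good_XW : ∀ Y ∈ XW, Good8 Y := by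
  have : (XW.all fun Y => decide (Y.length = 8) && Y.all fun x => decide (x < 256)) = true := by
    decide +kernel
  intro Y hY
  have h1 := List.all_eq_true.1 this Y hY
  rw [Bool.and_eq_true] at h1
  exact ⟨of_decide_eq_true h1.1, fun x hx => of_decide_eq_true (List.all_eq_true.1 h1.2 x hx)⟩

theorem good_genN : ∀ Y ∈ genN, Good8 Y := by
  have : (genN.all fun Y => decide (Y.length = 8) && Y.all fun x => decide (x < 256)) = true := by
    decide +kernel
  intro Y hY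
  have h1 := List.all_eq_true.1 this Y hY
  rw [Bool.and_eq_true] at h1
  exact ⟨of_decide_eq_true h1.1, fun x hx => of_decide_eq_true (List.all_eq_true.1 h1.2 x hx)⟩

theorem good_XG : ∀ Y ∈ XG, Good8 Y := fun Y hY => good_genN Y (List.mem_of_mem_drop hY)

/-- `USet` from the base data -/
theorem BaseData.uset {φ : Coord h} {Qf : G → Subgroup G} (I : UInput h Qf) {t : G}
    (B : BaseData φ Qf t) : USet (MM φ) (UU φ) where
  symm := by
    rintro u v ⟨h1, h2, s, hs⟩
    exact ⟨h2, h1, s, hs.symm⟩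
  add := by
    rintro u v ⟨h1, h2, s, hs⟩
    refine ⟨h1, xor_lt h1 h2, s, ?_⟩
    rw [sv_xor]; exact hs.add
  line := by
    rintro u v ⟨h1, h2, s, hs⟩
    refine ⟨h1, h2, ?_, ?_, ?_, (q_sv_zero φ h1).1 hs.qu, (q_sv_zero φ h2).1 hs.qv,
      (b_sv_zero φ h1 h2).1 hs.b⟩
    · rcases Nat.eq_zero_or_pos u with h0 | h0
      · exact absurd (by rw [h0, sv_zero]) hs.u0
      · exact h0
    · rcases Nat.eq_zero_or_pos v with h0 | h0
      · exact absurd (by rw [h0, sv_zero]) hs.v0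
      · exact h0
    · rintro rfl; exact hs.uv rfl
  gen := fun L hL => ⟨good_genN L hL, B.gen L hL⟩
  mul := by
    rintro L K ⟨h1, f, hf, hf'⟩ ⟨h2, g, hg, hg'⟩
    exact ⟨good_comp h1 h2, f * g, Subgroup.mul_mem _ hf hg, acts_comp h1 h2 hf' hg'⟩
  act := by
    rintro L u v ⟨h1, f, ⟨c, rfl⟩, hf'⟩ ⟨h2, h3, s, hs⟩
    refine ⟨apc_lt h1.2 _, apc_lt h1.2 _, (c : G) * s * (c : G)⁻¹, ?_⟩
    have := hs.conj' c
    rw [acts_sv h1.1 hf', acts_sv h1.1 hf'] at this
    exact this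
  sieg := by
    rintro u v ⟨h1, h2, s, hs⟩
    obtain ⟨hs1, hs2⟩ := hs.act
    exact ⟨good_sgc h1 h2, h.act ⟨s, hs1⟩, ⟨_, rfl⟩, acts_sgc h1 h2 hs2⟩
  base := ⟨by norm_num, by norm_num, t, B.isU⟩
  T := by
    rintro L ⟨h1, f, ⟨c, rfl⟩, hf'⟩ hcl
    -- `t^c` has the same line
    have hct := B.isU.conj' c
    rw [acts_sv h1.1 hf', acts_sv h1.1 hf'] at hct
    have hct' : IsU h ((c : G) * t * (c : G)⁻¹) (sv φ 1) (sv φ 2) := by
      have := rel_cl (R := fun u v => IsU h ((c : G) * t * (c : G)⁻¹) (sv φ u) (sv φ v))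
        (fun hR => hR.symm) (fun {u v} hR => by rw [sv_xor]; exact hR.add) hct
      rw [hcl] at this
      exact this
    obtain ⟨x, hx, hxt⟩ := I.same t _ _ _ B.isU hct'
    have hxz : x ∈ Subgroup.centralizer ({z} : Set G) :=
      Subgroup.mem_centralizer_singleton_iff.2 (h.comm_z x hx)
    set xx : Subgroup.centralizer ({z} : Set G) := ⟨x, hxz⟩ with hxx
    obtain ⟨k, hk⟩ : ∃ k : Subgroup.centralizer ({z} : Set G), k = xx⁻¹ * c := ⟨_, rfl⟩
    have hkt : (k : G) * t * (k : G)⁻¹ = t := by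
      rw [hk]
      show x⁻¹ * (c : G) * t * (x⁻¹ * (c : G))⁻¹ = t
      calc x⁻¹ * (c : G) * t * (x⁻¹ * (c : G))⁻¹ = x⁻¹ * ((c : G) * t * (c : G)⁻¹) * x := by group
        _ = x⁻¹ * (x * t * x⁻¹) * x := by rw [hxt]
        _ = t := by group
    have hQk : ∀ y ∈ Qf t, (k : G) * y * (k : G)⁻¹ ∈ Qf t := by
      intro y hy
      have h2 := I.Qf_conj (k : G) t B.isU.conj
      rw [hkt] at h2
      rw [h2]
      exact ⟨y, hy, rfl⟩
    have hactk : h.act k = h.act c := by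
      rw [hk, map_mul, map_inv, h.act_mem xx hx, inv_one, one_mul]
    rw [Tc, List.all_eq_true]
    intro X hX
    obtain ⟨y, hy, hyz, hyX⟩ := B.xg X hX
    have hmem : (k : G) * y * (k : G)⁻¹ ∈ Subgroup.centralizer ({z} : Set G) :=
      Subgroup.mul_mem _ (Subgroup.mul_mem _ k.2 hyz) (Subgroup.inv_mem _ k.2)
    obtain ⟨Y, hY, hYa⟩ := B.xw _ (hQk y hy) hmem
    rw [List.any_eq_true]
    refine ⟨Y, hY, ?_⟩
    rw [beq_iff_eq]
    have e : (⟨(k : G) * y * (k : G)⁻¹, hmem⟩ : Subgroup.centralizer ({z} : Set G)) * k =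
        k * ⟨y, hyz⟩ := by
      apply Subtype.ext
      show (k : G) * y * (k : G)⁻¹ * (k : G) = (k : G) * y
      group
    have e2 := congrArg h.act e
    rw [map_mul, map_mul, hactk] at e2
    have a1 := acts_comp h1 (good_XG X hX) hf' hyX
    have a2 := acts_comp (good_XW Y hY) h1 hYa hf'
    rw [e2] at a2
    exact list_ext (good_comp h1 (good_XG X hX)) (good_comp (good_XW Y hY) h1) a1 a2

/-! ### existence of the base data -/

theorem genN_zero : genN.getD 0 [] = sgc 1 2 := by decide +kernel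
theorem genN_one : genN.getD 1 [] = sgc 16 32 := by decide +kernel

theorem t_mem {Qf : G → Subgroup G} (I : UInput h Qf) {t : G} (ht : ∃ g, g * z * g⁻¹ = t) :
    t ∈ Qf t := by
  obtain ⟨g, rfl⟩ := ht
  rw [I.Qf_conj g z ⟨1, by simp⟩, I.Qf_z]
  exact ⟨z, h.z_mem, rfl⟩

theorem exists_base [Finite Q] (hc : Nat.card h.V = 256) {Qf : G → Subgroup G} (I : UInput h Qf) :
    ∃ (φ : Coord h) (t : G), BaseData φ Qf t := by
  obtain ⟨t, u, v, t', u', v', hu, hu', h11, h22, h12, h21⟩ := I.opp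
  obtain ⟨ρ, r1, r2, r3, r4⟩ := I.rho t u v hu
  have o : Opp h u v u' v' := ⟨hu.qu, hu.qv, hu'.qu, hu'.qv, hu.b, hu'.b, h11, h22, h12, h21⟩
  have hρ : Rho h u v ρ := ⟨r1, r2⟩
  obtain ⟨B, hB, B0, B1, B4, B5, R2, R3, R6, R7, T2, T3, T6, T7⟩ := exists_frame hc o hρ
  obtain ⟨φ, hφ⟩ := coord_of_frame h hc hB
  have hs : ∀ i : Fin 8, B i = sv φ (2 ^ (i : ℕ)) := by
    intro i
    rw [sv, ← hφ i, LinearEquiv.symm_apply_apply]
  have s0 : u = sv φ 1 := by rw [← B0]; exact hs 0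
  have s1 : v = sv φ 2 := by rw [← B1]; exact hs 1
  have s4 : u' = sv φ 16 := by rw [← B4]; exact hs 4
  have s5 : v' = sv φ 32 := by rw [← B5]; exact hs 5
  have s2 : B 2 = sv φ 4 := hs 2
  have s3 : B 3 = sv φ 8 := hs 3
  have s6 : B 6 = sv φ 64 := hs 6
  have s7 : B 7 = sv φ 128 := hs 7
  subst s0 s1 s4 s5
  rw [s2, s3] at R2
  rw [s2, s3] at R3
  rw [s6, s7] at R6
  rw [s6, s7] at R7
  have F : Fr φ ρ := ⟨o, hρ, R2, by rw [R3, ← sv_xor]; rfl, by rw [R6, ← sv_xor]; rfl, R7⟩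
  have hiso : ∀ (c : Subgroup.centralizer ({z} : Set G)) x, h.q (h.act c x) = h.q x :=
    fun c x => h.q_act c x
  have hxw : ∀ y ∈ Qf t, ∀ hy : y ∈ Subgroup.centralizer ({z} : Set G),
      ∃ Y ∈ XW, Acts φ Y (h.act ⟨y, hy⟩) := by
    intro y hy hyz
    obtain ⟨x, hx1, hx2, hx3⟩ := r3 y hy (Subgroup.mem_centralizer_singleton_iff.1 hyz)
    obtain ⟨n, hn, -, hK⟩ := Kform.toT F hx1 hx2 (hx3 hyz)
    obtain ⟨a, ha, c, hc', h1, h2, h3⟩ := Kform.list (hiso _) hn hK
    obtain ⟨Y, hY, hYe⟩ := mem_XW hn ha hc' h1 h2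
    exact ⟨Y, hY, hYe ▸ h3⟩
  have htQ := t_mem I hu.conj
  obtain ⟨htz, hta⟩ := hu.act
  have hsg : Acts φ (sgc 1 2) (h.act ⟨t, htz⟩) := acts_sgc (by norm_num) (by norm_num) hta
  have hxg : ∀ p ∈ [(4, 2), (8, 3), (64, 4), (128, 5)], ∃ y ∈ Qf t,
      ∃ hy : y ∈ Subgroup.centralizer ({z} : Set G), Acts φ (genN.getD (p : Nat × Nat).2 [])
        (h.act ⟨y, hy⟩) := by
    intro p hp
    have hpT : p.1 ∈ Tn := by
      have : ∀ p ∈ [((4 : Nat), (2 : Nat)), (8, 3), (64, 4), (128, 5)], p.1 ∈ Tn := by decide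
      exact this p hp
    have hpl : p.1 < 256 := by
      have : ∀ n ∈ Tn, n < 256 := by decide
      exact this _ hpT
    have hinT := inT_sv φ p.1 hpT
    obtain ⟨y, hy, hyz, hyr⟩ := r4 (sv φ p.1) hinT.perp.1 hinT.perp.2
    obtain ⟨n, hn, hpi, hK⟩ := Kform.toT F hinT.perp.1 hinT.perp.2 hyr
    rw [pi_of_InT hinT] at hpi
    have hnl : n < 256 := by
      have : ∀ n ∈ Tn, n < 256 := by decide
      exact this _ hn
    have := sv_inj φ hpl hnl hpi
    subst this
    obtain ⟨a, ha, c, hc', h1, h2, h3⟩ := Kform.list (hiso _) hn hK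
    rcases gen_cases (show (p.1, p.2) ∈ _ from hp) ha hc' h1 h2 with h4 | h4
    · exact ⟨y, hy, hyz, by rw [h4]; exact h3⟩
    · refine ⟨y * t, Subgroup.mul_mem _ hy htQ, Subgroup.mul_mem _ hyz htz, ?_⟩
      rw [h4]
      have e : (⟨y * t, Subgroup.mul_mem _ hyz htz⟩ : Subgroup.centralizer ({z} : Set G)) =
          ⟨y, hyz⟩ * ⟨t, htz⟩ := rfl
      rw [e, map_mul]
      exact acts_comp (good_mk ha hc') (good_sgc (by norm_num) (by norm_num)) h3 hsg
  have hlen : genN.length = 6 := by decide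
  have hgD : ∀ g ∈ genN, g = genN.getD 0 [] ∨ g = genN.getD 1 [] ∨ g ∈ XG := by
    intro g hg
    have : genN = genN.getD 0 [] :: genN.getD 1 [] :: XG := by decide
    rw [this] at hg
    simp only [List.mem_cons] at hg
    exact hg
  have hXG : ∀ X ∈ XG, ∃ p ∈ [((4 : Nat), (2 : Nat)), (8, 3), (64, 4), (128, 5)],
      X = genN.getD p.2 [] := by decide +kernel
  refine ⟨φ, t, hu, hxw, ?_, ?_⟩
  · intro X hX
    obtain ⟨p, hp, rfl⟩ := hXG X hX
    exact hxg p hp
  · intro g hg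
    rcases hgD g hg with rfl | rfl | hX
    · rw [genN_zero]
      exact ⟨_, ⟨_, rfl⟩, hsg⟩
    · rw [genN_one]
      obtain ⟨htz', hta'⟩ := hu'.act
      exact ⟨_, ⟨_, rfl⟩, acts_sgc (by norm_num) (by norm_num) hta'⟩
    · obtain ⟨p, hp, rfl⟩ := hXG g hX
      obtain ⟨y, -, hyz, hya⟩ := hxg p hp
      exact ⟨_, ⟨_, rfl⟩, hya⟩

/-! ### change of coordinates by `ω` -/

/-- `ω` and its inverse -/
def om : List Nat := [2, 3, 12, 4, 48, 16, 128, 192]
def om' : List Nat := [3, 1, 8, 12, 32, 48, 192, 64]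

theorem om_good : Good8 om := by unfold om Good8; decide
theorem om'_good : Good8 om' := by unfold om' Good8; decide

theorem lin_eq_of_codes {f g : F8 →ₗ[ZMod 2] F8} (hfg : ∀ n < 256, f (vec n) = g (vec n)) : f = g :=
  KillNine.Codes.lin_ext hfg

theorem om_om' (v : F8) : lin om (lin om' v) = v := by
  obtain ⟨n, hn, rfl⟩ := KillNine.Codes.exists_code v
  rw [lin_vec' om'_good.1, lin_vec' om_good.1]
  congr 1
  have : ((List.range 256).all fun n => apc om (apc om' n) == n) = true := by decide +kernel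
  exact beq_iff_eq.1 (List.all_eq_true.1 this n (List.mem_range.2 hn))

theorem om'_om (v : F8) : lin om' (lin om v) = v := by
  obtain ⟨n, hn, rfl⟩ := KillNine.Codes.exists_code v
  rw [lin_vec' om_good.1, lin_vec' om'_good.1]
  congr 1
  have : ((List.range 256).all fun n => apc om' (apc om n) == n) = true := by decide +kernel
  exact beq_iff_eq.1 (List.all_eq_true.1 this n (List.mem_range.2 hn))

/-- `ω` as a linear equivalence -/
noncomputable def omE : F8 ≃ₗ[ZMod 2] F8 :=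
  LinearEquiv.ofLinear (lin om) (lin om') (LinearMap.ext om_om') (LinearMap.ext om'_om)

theorem qs_om' (v : F8) : qs (lin om' v) = qs v := by
  obtain ⟨n, hn, rfl⟩ := KillNine.Codes.exists_code v
  rw [lin_vec' om'_good.1, qs_vec n hn, qs_vec _ (apc_lt om'_good.2 n)]
  have : ((List.range 256).all fun n => qc (apc om' n) == qc n) = true := by decide +kernel
  rw [beq_iff_eq.1 (List.all_eq_true.1 this n (List.mem_range.2 hn))]

/-- new coordinates: `sv φ' n = sv φ (ω n)` -/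
noncomputable def omCoord (φ : Coord h) : Coord h where
  e := φ.e.trans omE.symm
  q v := by
    rw [φ.q]
    show qs (φ.e v) = qs (lin om' (φ.e v))
    rw [qs_om']

theorem sv_om (φ : Coord h) (n : Nat) : sv (omCoord φ) n = sv φ (apc om n) := by
  show φ.e.symm (lin om (vec n)) = φ.e.symm (vec (apc om n))
  rw [lin_vec' om_good.1]

/-- matrices commuting with `ω` are the same in the new coordinates -/
theorem acts_om {φ : Coord h} {L : List Nat} (hL : Good8 L) {f : h.V ≃ₗ[ZMod 2] h.V}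
    (ha : Acts φ L f) (hcom : (List.range 8).all (fun i => apc L (apc om (2 ^ i)) == apc om (L.getD i 0)) = true) :
    Acts (omCoord φ) L f := by
  apply acts_of_basis
  intro i
  rw [sv_om, sv_om, acts_sv hL.1 ha]
  congr 1
  exact beq_iff_eq.1 (List.all_eq_true.1 hcom i (List.mem_range.2 i.2))

theorem com_XW : ∀ L ∈ XW,
    (List.range 8).all (fun i => apc L (apc om (2 ^ i)) == apc om (L.getD i 0)) = true := by
  decide +kernel

theorem com_genN : ∀ L ∈ genN,
    (List.range 8).all (fun i => apc L (apc om (2 ^ i)) == apc om (L.getD i 0)) = true := by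
  decide +kernel

theorem BaseData.om {φ : Coord h} {Qf : G → Subgroup G} {t : G} (B : BaseData φ Qf t) :
    BaseData (omCoord φ) Qf t where
  isU := by
    rw [sv_om, sv_om]
    have e1 : apc UCoord.om 1 = 2 := by decide +kernel
    have e2 : apc UCoord.om 2 = Nat.xor 2 1 := by decide +kernel
    rw [e1, e2, sv_xor]
    exact B.isU.symm.add
  xw := by
    intro y hy hyz
    obtain ⟨Y, hY, hYa⟩ := B.xw y hy hyz
    exact ⟨Y, hY, acts_om (good_XW Y hY) hYa (com_XW Y hY)⟩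
  xg := by
    intro X hX
    obtain ⟨y, hy, hyz, hya⟩ := B.xg X hX
    exact ⟨y, hy, hyz, acts_om (good_XG X hX) hya (com_genN X (List.mem_of_mem_drop hX))⟩
  gen := by
    intro g hg
    obtain ⟨f, hf, hfa⟩ := B.gen g hg
    exact ⟨f, hf, acts_om (good_genN g hg) hfa (com_genN g hg)⟩

theorem UU_om (φ : Coord h) {u v : Nat} (hu : u < 256) (hv : v < 256) :
    UU (omCoord φ) u v ↔ UU φ (apc om u) (apc om v) := by
  constructor
  · rintro ⟨-, -, s, hs⟩
    rw [sv_om, sv_om] at hs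
    exact ⟨apc_lt om_good.2 _, apc_lt om_good.2 _, s, hs⟩
  · rintro ⟨-, -, s, hs⟩
    rw [← sv_om, ← sv_om] at hs
    exact ⟨hu, hv, s, hs⟩

/-- **Main theorem of the enumeration of case I.** -/
theorem exists_coord [Finite Q] (hc : Nat.card h.V = 256) {Qf : G → Subgroup G} (I : UInput h Qf) :
    ∃ (φ : Coord h) (t : G), BaseData φ Qf t ∧ USet (MM φ) (UU φ) ∧
      ((∀ u v, UU φ u v ↔ cl u v ∈ lines T45) ∨
       (∀ u v, UU φ u v ↔ cl u v ∈ lines T45 ∨ cl u v ∈ lines TA4)) := by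
  obtain ⟨φ, t, B⟩ := exists_base hc I
  have key : ∀ (ψ : Coord h), BaseData ψ Qf t → UU ψ 1 4 →
      (∀ u v, UU ψ u v ↔ cl u v ∈ lines T45 ∨ cl u v ∈ lines TA4) := by
    intro ψ Bψ h4
    rcases enum_codes (Bψ.uset I) with h1 | h1 | h1 | h1
    · exact absurd ((h1 1 4).1 h4) (by decide +kernel)
    · exact h1
    · exact absurd ((h1 1 4).1 h4) (by decide +kernel)
    · exact absurd ((h1 1 4).1 h4) (by decide +kernel)
  have B1 := B.om
  have B2 := B1.om
  rcases enum_codes (B.uset I) with h1 | h1 | h1 | h1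
  · exact ⟨φ, t, B, B.uset I, Or.inl h1⟩
  · exact ⟨φ, t, B, B.uset I, Or.inr h1⟩
  · -- TA8
    have hd : UU (omCoord φ) 1 4 ∨ UU (omCoord (omCoord φ)) 1 4 := by
      rw [UU_om φ (by norm_num) (by norm_num), UU_om (omCoord φ) (by norm_num) (by norm_num),
        UU_om φ (apc_lt om_good.2 _) (apc_lt om_good.2 _), h1, h1]
      decide +kernel
    rcases hd with hd | hd
    · exact ⟨_, t, B1, B1.uset I, Or.inr (key _ B1 hd)⟩
    · exact ⟨_, t, B2, B2.uset I, Or.inr (key _ B2 hd)⟩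
  · have hd : UU (omCoord φ) 1 4 ∨ UU (omCoord (omCoord φ)) 1 4 := by
      rw [UU_om φ (by norm_num) (by norm_num), UU_om (omCoord φ) (by norm_num) (by norm_num),
        UU_om φ (apc_lt om_good.2 _) (apc_lt om_good.2 _), h1, h1]
      decide +kernel
    rcases hd with hd | hd
    · exact ⟨_, t, B1, B1.uset I, Or.inr (key _ B1 hd)⟩
    · exact ⟨_, t, B2, B2.uset I, Or.inr (key _ B2 hd)⟩

/-- every element of `H` has a matrix -/
theorem exists_MM (φ : Coord h) {f : h.V ≃ₗ[ZMod 2] h.V} (hf : f ∈ h.act.range) :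
    ∃ L, MM φ L ∧ Acts φ L f := by
  obtain ⟨L, hL, ha⟩ := exists_list φ f
  exact ⟨L, ⟨hL, f, hf, ha⟩, ha⟩

end Cfsg.Agent.LargeExtra.Nine.UCoord
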