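import Cfsg.Agent.LargeExtra.Nine.SpSix
import Cfsg.Agent.LargeExtra.Nine.UCoord
import Cfsg.Agent.LargeExtra.SixMinus
import Cfsg.Agent.PLocal.PConstrained
import Cfsg.Agent.SignalizersComponents.FStarPCore
import Cfsg.Prelude.Def_CaseTheorems
import Cfsg.Prelude.Def_Spor_Conway

/-!
# S1763, case I, second alternative of `UCoord.exists_coord`: `C_G(z) / Q ≃* Sp(6, 2)`, hence `Co₂` (S1675)

* `core_data`: the hypotheses of the recognition theorems in the form "trivial core, trivial centre, 2-constrained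
  centraliser" from `F*(C_G(z))` extraspecial in a simple group (also for S1677);
* `exists_sp`: `C_G(z) / Q ≃* Sp(6, 2)`;
* `isoCo2`: `G ≅ Co₂`, given S1675 for `G`.
-/

set_option autoImplicit false

namespace Cfsg.Agent.LargeExtra.Nine.SpCo

open Cfsg.Agent.Co2Type.Quad Cfsg.Agent.LargeExtra.Base Cfsg.Agent.LargeExtra.Nine
open UTree UCode UEnum UCoord SpSix

section Core

variable {G : Type*} [Group G] [Finite G]

theorem odd_core_eq_bot [IsSimpleGroup G] {z : G} (hz : orderOf z = 2) : Cfsg.oddCore G = ⊥ := by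
  have hn : (Cfsg.pPrimeCore 2 G).Normal := inferInstance
  rcases hn.eq_bot_or_eq_top with h | h
  · exact h
  · exfalso
    have h1 := Cfsg.Agent.PLocal.PConstrained.coprime_card_pPrimeCore (G := G) (p := 2)
    rw [h, Subgroup.card_top] at h1
    have h2 : 2 ∣ Nat.card G := by rw [← hz]; exact orderOf_dvd_natCard z
    have h3 : 2 ∣ Nat.gcd (Nat.card G) 2 := Nat.dvd_gcd h2 (dvd_refl 2)
    rw [h1] at h3
    exact absurd h3 (by norm_num)

theorem center_eq_bot [IsSimpleGroup G] (hG : ¬ IsMulCommutative G) : Subgroup.center G = ⊥ := by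
  have hn : (Subgroup.center G).Normal := inferInstance
  rcases hn.eq_bot_or_eq_top with h | h
  · exact h
  · exfalso
    apply hG
    refine ⟨⟨fun a b => ?_⟩⟩
    have ha : a ∈ Subgroup.center G := by rw [h]; exact Subgroup.mem_top a
    exact ((Subgroup.mem_center_iff.1 ha) b).symm

/-- the hypotheses of S1675, S1677 from an extraspecial `F*(C_G(z))` -/
theorem core_data [IsSimpleGroup G] (hG : ¬ IsMulCommutative G) {z : G} (hz : orderOf z = 2)
    (hE : Cfsg.IsExtraspecial 2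
      ↥(Cfsg.generalizedFittingSubgroup ↥(Subgroup.centralizer ({z} : Set G)))) :
    Cfsg.oddCore G = ⊥ ∧ Subgroup.center G = ⊥ ∧
      Cfsg.generalizedFittingSubgroup ↥(Subgroup.centralizer ({z} : Set G)) =
        Cfsg.pCore 2 ↥(Subgroup.centralizer ({z} : Set G)) ∧
      Cfsg.IsPConstrained 2 ↥(Subgroup.centralizer ({z} : Set G)) := by
  have : Fact (Nat.Prime 2) := ⟨Nat.prime_two⟩
  have hn := Cfsg.Agent.S1755.gfs_normal ↥(Subgroup.centralizer ({z} : Set G))
  have hcc := Cfsg.Agent.S1313.centralizer_le ↥(Subgroup.centralizer ({z} : Set G))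
  have hp : IsPGroup 2 ↥(Cfsg.generalizedFittingSubgroup ↥(Subgroup.centralizer ({z} : Set G))) :=
    hE.1.1
  have h1 := Cfsg.Agent.SignalizersComponents.FStarPCore.generalizedFitting_eq_pCore_of_centralizer_le
    hn hp hcc
  refine ⟨odd_core_eq_bot hz, center_eq_bot hG, h1, ?_⟩
  apply Cfsg.Agent.PLocal.PConstrained.isPConstrained_of_charP
  rw [← h1]
  exact hcc

end Core

section Main

variable {G : Type*} [Group G] {Q : Subgroup G} {z : G} {h : Large Q z}

/-- `H` in the second alternative of `UCoord.exists_coord` -/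
theorem hyp (φ : Coord h) (hU : USet (MM φ) (UU φ))
    (hUU : ∀ u v, UU φ u v ↔ cl u v ∈ lines T45 ∨ cl u v ∈ lines TA4) : Hyp φ h.act.range :=
  Hyp.of_uset (fun _ hf => exists_MM φ hf) (fun _ hL => ⟨hL.1.1, hL.1.2, hL.2⟩) hU hUU

/-- **`C_G(z) / Q ≃* Sp(6, 2)`** -/
theorem exists_sp [Finite G] (φ : Coord h) (hU : USet (MM φ) (UU φ))
    (hUU : ∀ u v, UU φ u v ↔ cl u v ∈ lines T45 ∨ cl u v ∈ lines TA4)
    (Q' : Subgroup (Subgroup.centralizer ({z} : Set G))) [Q'.Normal]
    (hQ' : Q'.map (Subgroup.centralizer ({z} : Set G)).subtype = Q) :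
    Nonempty ((Subgroup.centralizer ({z} : Set G)) ⧸ Q' ≃*
      Matrix.symplecticGroup (Fin 3) (ZMod 2)) := by
  obtain ⟨e1⟩ := SixMinus.quotient_equiv h Q' hQ'
  obtain ⟨e2⟩ := (hyp φ hU hUU).nonempty_sp
  exact ⟨e1.trans e2⟩

/-- **The case `Co₂` of S1763**: `H1675` is S1675 for the group `G`. -/
theorem isoCo2 [Finite G] [IsSimpleGroup G] (hG : ¬ IsMulCommutative G) (hz : orderOf z = 2)
    (hE : Cfsg.IsExtraspecial 2
      ↥(Cfsg.generalizedFittingSubgroup ↥(Subgroup.centralizer ({z} : Set G))))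
    (hcard : Nat.card
      ↥(Cfsg.generalizedFittingSubgroup ↥(Subgroup.centralizer ({z} : Set G))) = 2 ^ 9)
    (hQ : (Cfsg.generalizedFittingSubgroup ↥(Subgroup.centralizer ({z} : Set G))).map
      (Subgroup.centralizer ({z} : Set G)).subtype = Q)
    (φ : Coord h) (hU : USet (MM φ) (UU φ))
    (hUU : ∀ u v, UU φ u v ↔ cl u v ∈ lines T45 ∨ cl u v ∈ lines TA4)
    (H1675 : Cfsg.oddCore G = ⊥ → Subgroup.center G = ⊥ → ∀ t : G, orderOf t = 2 →
      Cfsg.IsPConstrained 2 (Subgroup.centralizer ({t} : Set G)) →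
      Cfsg.IsExtraspecial 2 (Cfsg.pCore 2 (Subgroup.centralizer ({t} : Set G))) →
      Nat.card (Cfsg.pCore 2 (Subgroup.centralizer ({t} : Set G))) = 2 ^ 9 →
      ((Subgroup.centralizer ({t} : Set G)) ⧸ Cfsg.pCore 2 (Subgroup.centralizer ({t} : Set G)) ≃*
        Matrix.symplecticGroup (Fin 3) (ZMod 2)) → Cfsg.Spor.IsoCo2 G) : Cfsg.Spor.IsoCo2 G := by
  obtain ⟨h1, h2, h3, h4⟩ := core_data hG hz hE
  rw [h3] at hE hcard hQ
  obtain ⟨e⟩ := exists_sp φ hU hUU _ hQ
  exact H1675 h1 h2 z hz h4 hE hcard e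

end Main

end Cfsg.Agent.LargeExtra.Nine.SpCo
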