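import Cfsg.Prelude.Def_ClassificationK
import Cfsg.Agent.LargeExtra.Nine.UCoord
import Cfsg.Agent.LargeExtra.Nine.SpCo
import Cfsg.Agent.LargeExtra.NineUnitary.Final
import Cfsg.Agent.LargeExtra.WG6
import Cfsg.Agent.LargeExtra.SiegelOrbit
import Cfsg.Agent.StandardComponent.AltFinal
import Cfsg.Agent.LargeExtra.AsmSeven

/-!
# S1763, case I (`z` weakly closed in `Q`): `PSU₆(2)` or `Co₂` (helper71)

Glue of `WCIrr.uinput` (helper888), `UCoord.exists_coord`, `NineUnitary.Final.isoPSU6` (helper949) and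
`SpCo.isoCo2` (helper356).
-/

set_option autoImplicit false

namespace Cfsg.Agent.LargeExtra.Nine.CaseOneMain

open Cfsg.Agent.Co2Type.Quad Cfsg.Agent.LargeExtra.Base Cfsg.Agent.LargeExtra.SiegelOrbit
  Cfsg.Agent.LargeExtra.Nine Cfsg.Agent.LargeExtra.Nine.UTree Cfsg.Agent.LargeExtra.Nine.UCode
  Cfsg.Agent.LargeExtra.Nine.UEnum
open Cfsg.Agent.LargeExtra.Nine.UCoord
open Cfsg.Agent.LargeExtra.WCIrr

/-- **Case I of S1763.** `H1675` is S1675 for `G`. -/
theorem caseOne {G : Type*} [Group G] [Finite G] [IsSimpleGroup G] (hG : ¬ IsMulCommutative G) (z : G)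
    (hz : orderOf z = 2)
    (hE : Cfsg.IsExtraspecial 2
      ↥(Cfsg.generalizedFittingSubgroup ↥(Subgroup.centralizer ({z} : Set G))))
    (hcard : Nat.card
      ↥(Cfsg.generalizedFittingSubgroup ↥(Subgroup.centralizer ({z} : Set G))) = 2 ^ 9)
    (hwc : ∀ g : G, g * z * g⁻¹ ∈ (Cfsg.generalizedFittingSubgroup
      ↥(Subgroup.centralizer ({z} : Set G))).map (Subgroup.centralizer ({z} : Set G)).subtype →
      g * z * g⁻¹ = z)
    (H1675 : Cfsg.oddCore G = ⊥ → Subgroup.center G = ⊥ → ∀ t : G, orderOf t = 2 →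
      Cfsg.IsPConstrained 2 (Subgroup.centralizer ({t} : Set G)) →
      Cfsg.IsExtraspecial 2 (Cfsg.pCore 2 (Subgroup.centralizer ({t} : Set G))) →
      Nat.card (Cfsg.pCore 2 (Subgroup.centralizer ({t} : Set G))) = 2 ^ 9 →
      ((Subgroup.centralizer ({t} : Set G)) ⧸ Cfsg.pCore 2 (Subgroup.centralizer ({t} : Set G)) ≃*
        Matrix.symplecticGroup (Fin 3) (ZMod 2)) → Cfsg.Spor.IsoCo2 G) :
    (∃ (F : Type) (_ : Field F) (_ : Fintype F), Fintype.card F = 4 ∧ Nonempty (G ≃* Cfsg.PSU 6 F 2)) ∨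
      Cfsg.Spor.IsoCo2 G := by
  classical
  have h := large_of_genFitting z hz hE
  have hO : O2 h := o2_of_genFitting h rfl
  obtain ⟨Q, hQ⟩ : ∃ Q : Subgroup G, (Cfsg.generalizedFittingSubgroup
      ↥(Subgroup.centralizer ({z} : Set G))).map (Subgroup.centralizer ({z} : Set G)).subtype = Q :=
    ⟨_, rfl⟩
  have h9 : Nat.card Q = 2 ^ 9 := by
    rw [← hQ, ← hcard]
    exact Subgroup.card_map_of_injective (Subgroup.subtype_injective _)
  rw [hQ] at hwc
  revert h
  rw [hQ]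
  intro h hO
  have hex := Cfsg.Agent.StandardComponent.AltFinal.exists_conj hG hz
  have hR : NoRefl Q z := noRefl_of_index h (by rw [h9]; norm_num) (AsmSeven.index_ne_two hG)
  have hcV : Nat.card h.V = 256 := by
    have h1 := h.card_eq
    rw [h9] at h1
    omega
  have I := uinput h (by rw [h9]; norm_num) hR hwc hO hex
  obtain ⟨φ, t, -, hU, h1 | h1⟩ := exists_coord hcV I
  · exact Or.inl (NineUnitary.Final.isoPSU6 hG h h9 hO hwc hex φ h1)
  · exact Or.inr (SpCo.isoCo2 hG hz hE hcard hQ φ hU h1 H1675)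

end Cfsg.Agent.LargeExtra.Nine.CaseOneMain
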