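import Cfsg.Agent.LargeExtra.KOne
import Cfsg.Agent.LargeExtra.PlusForm
import Cfsg.Agent.LargeExtra.AsmSeven
import Cfsg.Agent.LargeExtra.Nine.ToCent
import Cfsg.Agent.LargeExtra.Nine.SpCo

/-!
# S1763, `|D̃| = 2`: `C_G(z) / Q ≃* Ω₈⁺(2)`, hence `Co₁` (S1677) (helper416)
-/

set_option autoImplicit false

namespace Cfsg.Agent.LargeExtra.Nine.CoOne

open Cfsg.Agent.Co2Type.Quad Cfsg.Agent.LargeExtra.Base Cfsg.Agent.LargeExtra.Local
open Cfsg.Agent.LargeExtra.SiegelOrbit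

variable {G : Type*} [Group G] {Q A : Subgroup G} {z a : G}

theorem pCore_eq [Finite G] (h : Large Q z) (hO : O2 h) :
    Cfsg.pCore 2 ↥(Subgroup.centralizer ({z} : Set G)) =
      Q.subgroupOf (Subgroup.centralizer ({z} : Set G)) := by
  have : Fact (Nat.Prime 2) := ⟨Nat.prime_two⟩
  apply le_antisymm
  · intro x hx
    rw [Subgroup.mem_subgroupOf]
    exact hO _ inferInstance (Cfsg.Agent.Lib.Cores.pCore_isPGroup 2) x hx
  · refine le_sSup ⟨ToCent.normal h, ?_⟩
    exact (isPGroup h).of_equiv (Subgroup.subgroupOfEquivOfLe (ToCent.le_cent h)).symm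

/-- **The case `Co₁` of S1763**: `H1677` is S1677 for the group `G`. -/
theorem isoCo1 [Finite G] [IsSimpleGroup G] (hG : ¬ IsMulCommutative G) (p : Pair Q z A a)
    (hO : O2 p.lz) (hQ : Nat.card Q = 2 ^ 9) (hD : Nat.card p.D = 2)
    (H1677 : Cfsg.oddCore G = ⊥ → Subgroup.center G = ⊥ → ∀ t : G, orderOf t = 2 →
      Cfsg.IsPConstrained 2 (Subgroup.centralizer ({t} : Set G)) →
      Cfsg.IsExtraspecial 2 (Cfsg.pCore 2 (Subgroup.centralizer ({t} : Set G))) →
      Nat.card (Cfsg.pCore 2 (Subgroup.centralizer ({t} : Set G))) = 2 ^ 9 →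
      ((Subgroup.centralizer ({t} : Set G)) ⧸ Cfsg.pCore 2 (Subgroup.centralizer ({t} : Set G)) ≃*
        Cfsg.Omega (ZMod 2) (Cfsg.quadFormPlus 4 (ZMod 2))) → Cfsg.Spor.IsoCo1 G) :
    Cfsg.Spor.IsoCo1 G := by
  classical
  have : Fact (Nat.Prime 2) := ⟨Nat.prime_two⟩
  have h := p.lz
  have hN := ToCent.normal h
  have hV : Nat.card p.lz.V = 256 := by
    have h1 := p.lz.card_eq
    rw [hQ] at h1
    omega
  have h3 := pCore_eq p.lz hO
  have hz := orderOf_z p.lz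
  have hmap : (Q.subgroupOf (Subgroup.centralizer ({z} : Set G))).map
      (Subgroup.centralizer ({z} : Set G)).subtype = Q := by
    rw [Subgroup.subgroupOf_map_subtype, inf_eq_left.2 (ToCent.le_cent h)]
  have hT : ∃ T : Submodule (ZMod 2) p.lz.V, Nat.card T = 2 ^ 4 ∧ ∀ v ∈ T, p.lz.q v = 0 := by
    by_contra hcon
    exact KOne.false_of_minus p hO hQ hD hcon
  obtain ⟨e⟩ := PlusForm.exists_omega_plus (AsmSeven.index_ne_two hG) p hO hD (m := 4) (by norm_num)
    (by rw [hV]; norm_num) hT _ hmap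
  refine H1677 (SpCo.odd_core_eq_bot hz) (SpCo.center_eq_bot hG) z hz ?_ ?_ ?_ ?_
  · apply Cfsg.Agent.PLocal.PConstrained.isPConstrained_of_charP
    rw [h3]
    exact ToCent.centralizer_le h
  · rw [h3]
    exact ToCent.isExtraspecial h (by rw [hQ]; norm_num)
  · rw [h3, ToCent.card_subgroupOf h, hQ]
  · exact (QuotientGroup.quotientMulEquivOfEq h3).trans e

end Cfsg.Agent.LargeExtra.Nine.CoOne
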