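import Cfsg.Agent.LargeExtra.Nine.Iface
import Cfsg.Agent.LargeExtra.KillNine.Codes

/-!
# S1763: coordinates from a hyperbolic frame (helper71)
-/

set_option autoImplicit false

namespace Cfsg.Agent.LargeExtra.Nine.Frame

open Cfsg.Agent.Co2Type.Quad Cfsg.Agent.LargeExtra.Nine

variable {G : Type*} [Group G] {Q : Subgroup G} {z : G}

theorem q_smul (h : Large Q z) (c : ZMod 2) (v : h.V) : h.q (c • v) = c * h.q v := by
  have hc : c = 0 ∨ c = 1 := by revert c; decide
  rcases hc with rfl | rfl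
  · rw [zero_smul, h.q_zero, zero_mul]
  · rw [one_smul, one_mul]

/-- the relations of a hyperbolic frame `B 0, …, B 3, B 4, …, B 7` -/
structure IsFrame (h : Large Q z) (B : Fin 8 → h.V) : Prop where
  q : ∀ i, h.q (B i) = 0
  b : ∀ i j : Fin 8, h.b (B i) (B j) = if (i : ℕ) + 4 = j ∨ (j : ℕ) + 4 = i then 1 else 0

/-- the linear map of a frame -/
noncomputable def psi (h : Large Q z) (B : Fin 8 → h.V) : F8 →ₗ[ZMod 2] h.V :=
  Fintype.linearCombination (ZMod 2) B

theorem psi_apply (h : Large Q z) (B : Fin 8 → h.V) (y : F8) : psi h B y = ∑ i, y i • B i := rfl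

theorem b_psi (h : Large Q z) {B : Fin 8 → h.V} (hB : IsFrame h B) (y : F8) (j : Fin 8) :
    h.b (psi h B y) (B j) = y (if (j : ℕ) < 4 then j + 4 else j - 4) := by
  rw [psi_apply, map_sum, LinearMap.sum_apply]
  simp only [map_smul, LinearMap.smul_apply, hB.b, smul_eq_mul]
  fin_cases j <;> simp [Fin.sum_univ_eight]

theorem psi_injective (h : Large Q z) {B : Fin 8 → h.V} (hB : IsFrame h B) :
    Function.Injective (psi h B) := by
  rw [← LinearMap.ker_eq_bot, LinearMap.ker_eq_bot']
  intro y hy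
  funext i
  have h1 := b_psi h hB y (if (i : ℕ) < 4 then i + 4 else i - 4)
  rw [hy, map_zero, LinearMap.zero_apply] at h1
  rw [Pi.zero_apply]
  fin_cases i <;> exact h1.symm

theorem q_psi (h : Large Q z) {B : Fin 8 → h.V} (hB : IsFrame h B) (y : F8) :
    h.q (psi h B y) = qs y := by
  have hb : ∀ i j : Fin 8, ∀ c d : ZMod 2, h.b (c • B i) (d • B j) =
      if (i : ℕ) + 4 = j ∨ (j : ℕ) + 4 = i then c * d else 0 := by
    intro i j c d
    rw [map_smul, map_smul, LinearMap.smul_apply, hB.b, smul_eq_mul, smul_eq_mul]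
    split_ifs <;> ring
  rw [psi_apply, Fin.sum_univ_eight]
  simp only [h.q_add', q_smul, hB.q, mul_zero, map_add, LinearMap.add_apply, hb]
  simp [qs]

theorem coord_of_frame [Finite Q] (h : Large Q z) (hc : Nat.card h.V = 256) {B : Fin 8 → h.V}
    (hB : IsFrame h B) : ∃ φ : Coord h, ∀ i : Fin 8, φ.e (B i) = vec (2 ^ (i : ℕ)) := by
  have hbij : Function.Bijective (psi h B) := by
    rw [Nat.bijective_iff_injective_and_card]
    refine ⟨psi_injective h hB, ?_⟩
    rw [hc]
    simp [F8]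
  let E : F8 ≃ₗ[ZMod 2] h.V := LinearEquiv.ofBijective (psi h B) hbij
  refine ⟨⟨E.symm, fun v => ?_⟩, fun i => ?_⟩
  · obtain ⟨y, rfl⟩ := E.surjective v
    rw [LinearEquiv.symm_apply_apply]
    exact q_psi h hB y
  · show E.symm (B i) = _
    rw [LinearEquiv.symm_apply_eq]
    show B i = psi h B _
    rw [psi_apply, ← KillNine.Codes.basis_vec, Finset.sum_eq_single i]
    · simp
    · intro j _ hj
      rw [Pi.single_eq_of_ne hj, zero_smul]
    · simp

end Cfsg.Agent.LargeExtra.Nine.Frame
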