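import Cfsg.Agent.ClassicalGeometry.SympBasic
import Cfsg.Agent.S0765

/-!
# Permutation groups preserving the symplectic form over `F₂`

`nonempty_equiv`: a group `H` acting faithfully on `F₂^(2m)` by permutations which preserve the standard symplectic
form and inducing all transvections is `Sp(2m, 2)`.
-/

set_option autoImplicit false
open Cfsg
open scoped Matrix

namespace Cfsg.Agent.LargeExtra.Nine.SpPerm

open Cfsg.Agent.ClassicalGeometry.SympBasic

variable {m : ℕ}

/-- A permutation preserving the form is additive. -/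
theorem map_add_of_preserves (s : Equiv.Perm (Fin m ⊕ Fin m → ZMod 2))
    (hs : ∀ x y, sympForm m (ZMod 2) (s x) (s y) = sympForm m (ZMod 2) x y)
    (x y : Fin m ⊕ Fin m → ZMod 2) : s (x + y) = s x + s y := by
  apply eq_of_forall_sympForm_left
  intro w
  obtain ⟨v, rfl⟩ := s.surjective w
  rw [hs, sympForm_add_right, sympForm_add_right, hs, hs]

/-- the linear map of a permutation preserving the form -/
def linOf (s : Equiv.Perm (Fin m ⊕ Fin m → ZMod 2))
    (hs : ∀ x y, sympForm m (ZMod 2) (s x) (s y) = sympForm m (ZMod 2) x y) :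
    (Fin m ⊕ Fin m → ZMod 2) →ₗ[ZMod 2] (Fin m ⊕ Fin m → ZMod 2) :=
  AddMonoidHom.toZModLinearMap 2 (AddMonoidHom.mk' s (map_add_of_preserves s hs))

@[simp] theorem linOf_apply (s : Equiv.Perm (Fin m ⊕ Fin m → ZMod 2))
    (hs : ∀ x y, sympForm m (ZMod 2) (s x) (s y) = sympForm m (ZMod 2) x y)
    (x : Fin m ⊕ Fin m → ZMod 2) : linOf s hs x = s x := rfl

/-- the symplectic matrix of a permutation preserving the form -/
noncomputable def spOf (s : Equiv.Perm (Fin m ⊕ Fin m → ZMod 2))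
    (hs : ∀ x y, sympForm m (ZMod 2) (s x) (s y) = sympForm m (ZMod 2) x y) :
    Matrix.symplecticGroup (Fin m) (ZMod 2) :=
  ⟨LinearMap.toMatrix' (linOf s hs), by
    rw [mem_symplecticGroup_iff]
    intro u v
    rw [LinearMap.toMatrix'_mulVec, LinearMap.toMatrix'_mulVec, linOf_apply, linOf_apply, hs]⟩

theorem spOf_mulVec (s : Equiv.Perm (Fin m ⊕ Fin m → ZMod 2))
    (hs : ∀ x y, sympForm m (ZMod 2) (s x) (s y) = sympForm m (ZMod 2) x y)
    (x : Fin m ⊕ Fin m → ZMod 2) :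
    (spOf s hs : Matrix (Fin m ⊕ Fin m) (Fin m ⊕ Fin m) (ZMod 2)) *ᵥ x = s x := by
  show LinearMap.toMatrix' (linOf s hs) *ᵥ x = s x
  rw [LinearMap.toMatrix'_mulVec, linOf_apply]

/-- two symplectic matrices with the same action are equal -/
theorem sp_ext {A B : Matrix.symplecticGroup (Fin m) (ZMod 2)}
    (h : ∀ x, (A : Matrix (Fin m ⊕ Fin m) (Fin m ⊕ Fin m) (ZMod 2)) *ᵥ x =
      (B : Matrix (Fin m ⊕ Fin m) (Fin m ⊕ Fin m) (ZMod 2)) *ᵥ x) : A = B := by
  apply Subtype.ext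
  rw [← Matrix.mulVec_injective.eq_iff]
  funext x
  exact h x

/-- **Recognition of `Sp(2m, 2)`** as a permutation group. -/
theorem nonempty_equiv {H : Type*} [Group H] (Φ : H →* Equiv.Perm (Fin m ⊕ Fin m → ZMod 2))
    (hinj : Function.Injective Φ)
    (hB : ∀ h x y, sympForm m (ZMod 2) (Φ h x) (Φ h y) = sympForm m (ZMod 2) x y)
    (hT : ∀ w, ∃ h, ∀ x, Φ h x = x + sympForm m (ZMod 2) x w • w) :
    Nonempty (H ≃* Matrix.symplecticGroup (Fin m) (ZMod 2)) := by
  classical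
  let Ψ : H →* Matrix.symplecticGroup (Fin m) (ZMod 2) :=
    { toFun := fun h => spOf (Φ h) (hB h)
      map_one' := sp_ext fun x => by
        rw [spOf_mulVec, map_one]
        show x = (1 : Matrix (Fin m ⊕ Fin m) (Fin m ⊕ Fin m) (ZMod 2)) *ᵥ x
        rw [Matrix.one_mulVec]
      map_mul' := fun a b => sp_ext fun x => by
        rw [spOf_mulVec, coe_mul_mulVec, spOf_mulVec, spOf_mulVec, map_mul]
        rfl }
  have hΨ : ∀ h x, (Ψ h : Matrix (Fin m ⊕ Fin m) (Fin m ⊕ Fin m) (ZMod 2)) *ᵥ x = Φ h x :=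
    fun h x => spOf_mulVec _ _ x
  have hinj' : Function.Injective Ψ := by
    intro a b hab
    apply hinj
    ext1 x
    rw [← hΨ, ← hΨ, hab]
  have hsurj : Function.Surjective Ψ := by
    rw [← MonoidHom.range_eq_top, ← top_le_iff, ← Cfsg.Agent.S0765.result (F := ZMod 2) m,
      Subgroup.closure_le]
    rintro A ⟨w, c, hA⟩
    by_cases hc : c = 0
    · have : A = 1 := by
        apply Subtype.ext
        rw [hA, hc, sympTransvection_zero]
        rfl
      rw [this]
      exact one_mem _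
    · have hc1 : c = 1 := (by decide : ∀ c : ZMod 2, c ≠ 0 → c = 1) c hc
      subst hc1
      obtain ⟨h, hh⟩ := hT w
      refine ⟨h, sp_ext fun x => ?_⟩
      rw [hΨ, hh, hA, sympTransvection_mulVec, one_mul]
  exact ⟨MulEquiv.ofBijective Ψ ⟨hinj', hsurj⟩⟩

section Sets

variable {V : Type*} [AddCommGroup V] [Module (ZMod 2) V]
  (H : Subgroup (V ≃ₗ[ZMod 2] V)) (S : (Fin m ⊕ Fin m → ZMod 2) → Set V)

/-- `f` maps `S c` onto `S d` -/
def Rel (f : V ≃ₗ[ZMod 2] V) (c d : Fin m ⊕ Fin m → ZMod 2) : Prop := ∀ v, v ∈ S c ↔ f v ∈ S d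

variable {S}

theorem Rel.unique (hinj : Function.Injective S) {f : V ≃ₗ[ZMod 2] V} {c d d' : Fin m ⊕ Fin m → ZMod 2}
    (h : Rel S f c d) (h' : Rel S f c d') : d = d' := by
  apply hinj
  ext w
  obtain ⟨v, rfl⟩ := f.surjective w
  rw [← h v, ← h' v]

theorem Rel.one (c : Fin m ⊕ Fin m → ZMod 2) : Rel S 1 c c := fun _ => Iff.rfl

theorem Rel.mul {f g : V ≃ₗ[ZMod 2] V} {c d e : Fin m ⊕ Fin m → ZMod 2}
    (hf : Rel S f d e) (hg : Rel S g c d) : Rel S (f * g) c e := by
  intro v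
  rw [hg v, hf (g v)]
  rfl

/-- the data: `H` permutes the sets `S c`, whose intersections recover the symplectic form -/
structure Fam (H : Subgroup (V ≃ₗ[ZMod 2] V)) (S : (Fin m ⊕ Fin m → ZMod 2) → Set V) : Prop where
  zero : S 0 = Set.univ
  ne_univ : ∀ c, c ≠ 0 → S c ≠ Set.univ
  anti : ∀ c d, c ≠ 0 → d ≠ 0 → S c ⊆ S d → c = d
  map : ∀ f ∈ H, ∀ c, c ≠ 0 → ∃ d, d ≠ 0 ∧ ∀ v ∈ S c, f v ∈ S d
  form : ∀ c d, (∃ v, v ≠ 0 ∧ v ∈ S c ∧ v ∈ S d) ↔ sympForm m (ZMod 2) c d = 0
  fix : ∀ f ∈ H, (∀ c, ∀ v ∈ S c, f v ∈ S c) → f = 1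
  trans : ∀ w, w ≠ 0 → ∃ f ∈ H, ∀ c, c ≠ 0 → ∀ v ∈ S c, f v ∈ S (c + sympForm m (ZMod 2) c w • w)

variable {H}

theorem Fam.inj (F : Fam H S) : Function.Injective S := by
  intro c d hcd
  by_cases hc : c = 0
  · by_cases hd : d = 0
    · rw [hc, hd]
    · exact absurd (by rw [← hcd, hc, F.zero]) (F.ne_univ d hd)
  · by_cases hd : d = 0
    · exact absurd (by rw [hcd, hd, F.zero]) (F.ne_univ c hc)
    · exact F.anti c d hc hd hcd.subset

theorem Fam.rel_of_sub (F : Fam H S) {f : V ≃ₗ[ZMod 2] V} (hf : f ∈ H) {c d : Fin m ⊕ Fin m → ZMod 2}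
    (hc : c ≠ 0) (hd : d ≠ 0) (h : ∀ v ∈ S c, f v ∈ S d) : Rel S f c d := by
  obtain ⟨e, he, h1⟩ := F.map f⁻¹ (H.inv_mem hf) d hd
  have h2 : ∀ v, f⁻¹ (f v) = v := fun v => f.symm_apply_apply v
  have hce : c = e := F.anti c e hc he fun v hv => by
    have := h1 _ (h v hv)
    rwa [h2] at this
  intro v
  refine ⟨h v, fun hv => ?_⟩
  have := h1 _ hv
  rwa [h2, ← hce] at this

theorem Fam.exists_rel (F : Fam H S) (f : H) (c : Fin m ⊕ Fin m → ZMod 2) :
    ∃ d, Rel S (f : V ≃ₗ[ZMod 2] V) c d := by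
  by_cases hc : c = 0
  · refine ⟨0, fun v => ?_⟩
    rw [hc, F.zero]
    exact iff_of_true (Set.mem_univ _) (Set.mem_univ _)
  · obtain ⟨d, hd, h⟩ := F.map f f.2 c hc
    exact ⟨d, F.rel_of_sub f.2 hc hd h⟩

/-- the action on the index set -/
noncomputable def Fam.act (F : Fam H S) (f : H) (c : Fin m ⊕ Fin m → ZMod 2) : Fin m ⊕ Fin m → ZMod 2 :=
  (F.exists_rel f c).choose

theorem Fam.act_spec (F : Fam H S) (f : H) (c : Fin m ⊕ Fin m → ZMod 2) :
    Rel S (f : V ≃ₗ[ZMod 2] V) c (F.act f c) := (F.exists_rel f c).choose_spec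

theorem Fam.act_eq (F : Fam H S) {f : H} {c d : Fin m ⊕ Fin m → ZMod 2}
    (h : Rel S (f : V ≃ₗ[ZMod 2] V) c d) : F.act f c = d := (F.act_spec f c).unique F.inj h

theorem Fam.act_one (F : Fam H S) (c : Fin m ⊕ Fin m → ZMod 2) : F.act 1 c = c :=
  F.act_eq (Rel.one c)

theorem Fam.act_mul (F : Fam H S) (f g : H) (c : Fin m ⊕ Fin m → ZMod 2) :
    F.act (f * g) c = F.act f (F.act g c) :=
  F.act_eq ((F.act_spec f (F.act g c)).mul (F.act_spec g c))

/-- the permutation representation -/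
noncomputable def Fam.perm (F : Fam H S) : H →* Equiv.Perm (Fin m ⊕ Fin m → ZMod 2) where
  toFun f :=
    { toFun := F.act f
      invFun := F.act f⁻¹
      left_inv := fun c => by rw [← F.act_mul, inv_mul_cancel, F.act_one]
      right_inv := fun c => by rw [← F.act_mul, mul_inv_cancel, F.act_one] }
  map_one' := Equiv.ext fun c => F.act_one c
  map_mul' f g := Equiv.ext fun c => F.act_mul f g c

/-- **Recognition of `Sp(2m, 2)`** as a linear group permuting a family of subsets. -/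
theorem Fam.nonempty_equiv (F : Fam H S) :
    Nonempty (H ≃* Matrix.symplecticGroup (Fin m) (ZMod 2)) := by
  apply SpPerm.nonempty_equiv F.perm
  · rw [injective_iff_map_eq_one]
    intro f hf
    apply Subtype.ext
    apply F.fix f f.2
    intro c v hv
    have h1 := F.act_spec f c
    have h2 : F.act f c = c := congrArg (fun t : Equiv.Perm (Fin m ⊕ Fin m → ZMod 2) => t c) hf
    rw [h2] at h1
    exact (h1 v).1 hv
  · intro f x y
    have key : sympForm m (ZMod 2) (F.act f x) (F.act f y) = 0 ↔ sympForm m (ZMod 2) x y = 0 := by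
      rw [← F.form, ← F.form]
      constructor
      · rintro ⟨w, hw, h1, h2⟩
        obtain ⟨v, rfl⟩ := (f : V ≃ₗ[ZMod 2] V).surjective w
        refine ⟨v, ?_, (F.act_spec f x v).2 h1, (F.act_spec f y v).2 h2⟩
        rintro rfl
        exact hw (map_zero _)
      · rintro ⟨v, hv, h1, h2⟩
        exact ⟨(f : V ≃ₗ[ZMod 2] V) v, (LinearEquiv.map_ne_zero_iff _).2 hv,
          (F.act_spec f x v).1 h1, (F.act_spec f y v).1 h2⟩
    have h2 : ∀ a b : ZMod 2, (a = 0 ↔ b = 0) → a = b := by decide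
    exact h2 _ _ key
  · intro w
    by_cases hw : w = 0
    · refine ⟨1, fun x => ?_⟩
      rw [hw, smul_zero, add_zero, map_one]
      rfl
    · obtain ⟨f, hf, h⟩ := F.trans w hw
      refine ⟨⟨f, hf⟩, fun x => ?_⟩
      show F.act ⟨f, hf⟩ x = _
      apply F.act_eq
      by_cases hx : x = 0
      · rw [hx, sympForm_zero_left, zero_smul, add_zero]
        intro v
        rw [F.zero]
        exact iff_of_true (Set.mem_univ _) (Set.mem_univ _)
      · refine F.rel_of_sub hf hx ?_ (h x hx)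
        intro h0
        by_cases hB : sympForm m (ZMod 2) x w = 0
        · rw [hB, zero_smul, add_zero] at h0
          exact hx h0
        · have hB1 : sympForm m (ZMod 2) x w = 1 :=
            (by decide : ∀ c : ZMod 2, c ≠ 0 → c = 1) _ hB
          rw [hB1, one_smul] at h0
          have h3 : x = w := by
            rw [eq_neg_of_add_eq_zero_left h0]
            exact ZModModule.neg_eq_self w
          apply hB
          rw [h3, sympForm_self]

end Sets

end Cfsg.Agent.LargeExtra.Nine.SpPerm
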