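import Cfsg.Agent.LargeExtra.Nine.UCode

/-!
# S1763 case I: `enum_codes` (helper71)
-/

set_option autoImplicit false

namespace Cfsg.Agent.LargeExtra.Nine.UEnum

open UTree UCode

/-- generators of `X_W` modulo `t_W` -/
def XG : List (List Nat) := genN.drop 2

/-- `L X_W L⁻¹ ⊆ X_W` on generators -/
def Tc (L : List Nat) : Bool :=
  XG.all fun x => XW.any fun y => comp L x == comp y L

/-- the data: `M` = matrices of elements of `H`, `U` = pairs of codes spanning a U-line -/
structure USet (M : List Nat → Prop) (U : Nat → Nat → Prop) : Prop where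
  symm : ∀ {u v}, U u v → U v u
  add : ∀ {u v}, U u v → U u (Nat.xor u v)
  line : ∀ {u v}, U u v → u < 256 ∧ v < 256 ∧ 0 < u ∧ 0 < v ∧ u ≠ v ∧ qc u = false ∧ qc v = false ∧
    bc u v = false
  gen : ∀ L ∈ genN, M L
  mul : ∀ {L K}, M L → M K → M (comp L K)
  act : ∀ {L u v}, M L → U u v → U (apc L u) (apc L v)
  sieg : ∀ {u v}, U u v → M (sgc u v)
  base : U 1 2
  T : ∀ {L}, M L → cl (apc L 1) (apc L 2) = (1, 2) → Tc L = true

theorem xor_xor_self_left (u v : Nat) : Nat.xor u (Nat.xor u v) = v :=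
  Nat.xor_xor_cancel_left u v

theorem xor_comm' (u v : Nat) : Nat.xor u v = Nat.xor v u := Nat.xor_comm u v

variable {M : List Nat → Prop} {U : Nat → Nat → Prop}

theorem USet.all6 (h : USet M U) {u v : Nat} (hu : U u v) :
    U v u ∧ U u (Nat.xor u v) ∧ U (Nat.xor u v) u ∧ U v (Nat.xor u v) ∧ U (Nat.xor u v) v := by
  have h1 := h.symm hu
  have h2 := h.add hu
  have h3 := h.add h1
  rw [xor_comm' v u] at h3
  exact ⟨h1, h2, h.symm h2, h3, h.symm h3⟩

theorem USet.cl_of (h : USet M U) {u v : Nat} (hu : U u v) : U (cl u v).1 (cl u v).2 := by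
  obtain ⟨h1, h2, h3, h4, h5⟩ := h.all6 hu
  unfold cl
  simp only
  split_ifs
  · exact hu
  · exact h2
  · exact h3
  · exact h1
  · exact h4
  · exact h5

theorem USet.of_cl (h : USet M U) {u v : Nat} (hu : U (cl u v).1 (cl u v).2) : U u v := by
  unfold cl at hu
  simp only at hu
  split_ifs at hu
  · exact hu
  · have := h.add hu
    rwa [show ((u, Nat.xor u v) : Nat × Nat).1 = u from rfl,
      show ((u, Nat.xor u v) : Nat × Nat).2 = Nat.xor u v from rfl, xor_xor_self_left] at this
  · have := h.add (h.symm hu)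
    rwa [show ((Nat.xor u v, u) : Nat × Nat).1 = Nat.xor u v from rfl,
      show ((Nat.xor u v, u) : Nat × Nat).2 = u from rfl, xor_xor_self_left] at this
  · exact h.symm hu
  · have := h.add hu
    rw [show ((v, Nat.xor u v) : Nat × Nat).1 = v from rfl,
      show ((v, Nat.xor u v) : Nat × Nat).2 = Nat.xor u v from rfl, xor_comm' u v,
      xor_xor_self_left] at this
    exact h.symm this
  · have := h.add (h.symm hu)
    rw [show ((Nat.xor u v, v) : Nat × Nat).1 = Nat.xor u v from rfl,
      show ((Nat.xor u v, v) : Nat × Nat).2 = v from rfl, xor_comm' u v,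
      xor_xor_self_left] at this
    exact h.symm this

theorem USet.chk1_iff (h : USet M U) {A : List (Nat × Nat × Nat × Nat × Nat)}
    {e : Nat × Nat × Nat × Nat × Nat} (hc : chk1 A e = true) {R : Prop}
    (hA : ∀ a ∈ A, (U a.1 a.2.1 ↔ R)) : (U e.1 e.2.1 ↔ R) := by
  unfold chk1 at hc
  simp only [Bool.and_eq_true, List.any_eq_true, beq_iff_eq, decide_eq_true_eq] at hc
  obtain ⟨⟨hlt, a, ha, ha1, ha2⟩, hc1, hc2⟩ := hc
  have hg : M (genN.getD e.2.2.1 []) := by
    apply h.gen
    rw [List.getD_eq_getElem _ _ hlt]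
    exact List.getElem_mem _
  have key : U e.2.2.2.1 e.2.2.2.2 ↔ R := by
    rw [← ha1, ← ha2]; exact hA a ha
  rw [← key]
  constructor
  · intro hu
    have := h.cl_of (h.act hg hu)
    rw [hc1] at this
    exact this
  · intro hu
    have := h.cl_of (h.act hg hu)
    rw [hc2] at this
    exact this

theorem USet.tree (h : USet M U) {R : Prop} :
    ∀ (T : List (List (Nat × Nat × Nat × Nat × Nat))) (A : List (Nat × Nat × Nat × Nat × Nat)),
      chk (A :: T) = true → (∀ a ∈ A, (U a.1 a.2.1 ↔ R)) →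
      ∀ e ∈ (A :: T).flatten, (U e.1 e.2.1 ↔ R) := by
  intro T
  induction T with
  | nil =>
    intro A _ hA e he
    simp only [List.flatten_cons, List.flatten_nil, List.append_nil] at he
    exact hA e he
  | cons B T ih =>
    intro A hc hA e he
    simp only [chk, Bool.and_eq_true, List.all_eq_true] at hc
    rw [List.flatten_cons, List.mem_append] at he
    rcases he with he | he
    · exact hA e he
    · exact ih B hc.2 (fun b hb => h.chk1_iff (hc.1 b hb) hA) e he

theorem USet.T45 (h : USet M U) : ∀ e ∈ UTree.T45.flatten, (U e.1 e.2.1 ↔ True) :=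
  h.tree (UTree.T45.drop 1) _ chk_T45 (by
    intro a ha
    rw [List.mem_singleton.1 ha]
    exact ⟨fun _ => trivial, fun _ => h.base⟩)

theorem USet.TA4 (h : USet M U) : ∀ e ∈ UTree.TA4.flatten, (U e.1 e.2.1 ↔ U 1 4) :=
  h.tree (UTree.TA4.drop 1) _ chk_TA4 (by
    intro a ha
    rw [List.mem_singleton.1 ha])

theorem USet.TA8 (h : USet M U) : ∀ e ∈ UTree.TA8.flatten, (U e.1 e.2.1 ↔ U 1 8) :=
  h.tree (UTree.TA8.drop 1) _ chk_TA8 (by
    intro a ha
    rw [List.mem_singleton.1 ha])

theorem USet.TA12 (h : USet M U) : ∀ e ∈ UTree.TA12.flatten, (U e.1 e.2.1 ↔ U 1 12) :=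
  h.tree (UTree.TA12.drop 1) _ chk_TA12 (by
    intro a ha
    rw [List.mem_singleton.1 ha])

theorem USet.TB (h : USet M U) : ∀ e ∈ UTree.TB.flatten, (U e.1 e.2.1 ↔ U 1 32) :=
  h.tree (UTree.TB.drop 1) _ chk_TB (by
    intro a ha
    rw [List.mem_singleton.1 ha])

theorem testBit_maskOf (k : Nat) : ∀ L : List Nat, Nat.testBit (maskOf L) k = true → k ∈ L := by
  intro L
  induction L with
  | nil => intro h; simp [maskOf] at h
  | cons a L ih =>
    intro h
    have h2 : (1 <<< a ||| maskOf L).testBit k = true := h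
    rw [Nat.testBit_or, Bool.or_eq_true, Nat.testBit_shiftLeft] at h2
    rcases h2 with h2 | h2
    · simp only [Bool.and_eq_true, decide_eq_true_eq] at h2
      have h3 : k - a = 0 := by
        by_contra hne
        have := Nat.testBit_one_eq_true_iff_self_eq_zero.1 h2.2
        exact hne this
      have : k = a := by omega
      rw [this]; exact List.mem_cons_self
    · exact List.mem_cons_of_mem _ (ih h2)

theorem all_lt : ∀ T ∈ [UTree.T45, UTree.TA4, UTree.TA8, UTree.TA12, UTree.TB],
    (T.flatten.all fun e => decide (e.2.1 < 256)) = true := by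
  decide +kernel

theorem mem_keys {T : List (List (Nat × Nat × Nat × Nat × Nat))}
    (hT : (T.flatten.all fun e => decide (e.2.1 < 256)) = true) {u v : Nat} (hv : v < 256)
    (h : 256 * u + v ∈ keys T) : ∃ e ∈ T.flatten, e.1 = u ∧ e.2.1 = v := by
  unfold keys at h
  rw [List.mem_map] at h
  obtain ⟨e, he, hk⟩ := h
  have := of_decide_eq_true (List.all_eq_true.1 hT e he)
  exact ⟨e, he, by omega, by omega⟩

theorem USet.isLine_cl (h : USet M U) {u v : Nat} (hu : U u v) :
    (cl u v).1 < 256 ∧ (cl u v).2 < 256 ∧ isLine (cl u v).1 (cl u v).2 = true := by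
  have h1 := h.line (h.cl_of hu)
  obtain ⟨a1, a2, a3, a4, a5, a6, a7, a8⟩ := h1
  refine ⟨a1, a2, ?_⟩
  obtain ⟨b1, b2, b3, b4, b5, -, -, -⟩ := h.line hu
  have c1 : (cl u v).1 < (cl u v).2 ∧ (cl u v).2 < Nat.xor (cl u v).1 (cl u v).2 := by
    have hw : Nat.xor u v ≠ u := by
      intro h'
      have : Nat.xor u (Nat.xor u v) = 0 := by rw [h']; exact Nat.xor_self u
      rw [xor_xor_self_left] at this
      omega
    have hw' : Nat.xor u v ≠ v := by
      intro h'
      have : Nat.xor v (Nat.xor v u) = 0 := by rw [xor_comm' v u, h']; exact Nat.xor_self v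
      rw [xor_xor_self_left] at this
      omega
    have e1 : Nat.xor u (Nat.xor u v) = v := xor_xor_self_left u v
    have e2 : Nat.xor v (Nat.xor u v) = u := by rw [xor_comm' u v]; exact xor_xor_self_left v u
    have e3 : Nat.xor (Nat.xor u v) u = v := by rw [xor_comm' _ u]; exact e1
    have e4 : Nat.xor (Nat.xor u v) v = u := by rw [xor_comm' _ v]; exact e2
    have e5 : Nat.xor v u = Nat.xor u v := xor_comm' v u
    unfold cl
    simp only
    split_ifs <;> simp only [e1, e2, e3, e4, e5] <;> omega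
  unfold isLine
  simp only [Bool.and_eq_true, decide_eq_true_eq, Bool.not_eq_true', a6, a7, a8, c1.1, c1.2, a3, and_self]

theorem not_beta (h : USet M U) : ¬ U 1 32 := by
  intro hu
  have h1 := h.T (h.sieg hu) (by decide +kernel)
  revert h1
  decide +kernel

/-- product of a word (first letter applied first) -/
def word (gs : List (List Nat)) : List Nat := gs.foldl (fun acc g => comp g acc) [1, 2, 4, 8, 16, 32, 64, 128]

theorem USet.word_mem (h : USet M U) (gs : List (List Nat)) (hg : ∀ g ∈ gs, M g) :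
    ∀ acc, M acc → M (gs.foldl (fun acc g => comp g acc) acc) := by
  induction gs with
  | nil => intro acc ha; exact ha
  | cons g gs ih =>
    intro acc ha
    exact ih (fun x hx => hg x (List.mem_cons_of_mem _ hx)) _ (h.mul (hg g List.mem_cons_self) ha)

theorem not_two (h : USet M U) {d d' : Nat} (hd : U 1 d) (hd' : U 1 d')
    (hl : let A := sgc 1 d; let B := sgc 1 d'; let t := genN.getD 1 []; let x := genN.getD 4 []
      let S := [A, t, x, t, B, t, x, t, A, t].foldl (fun acc g => comp g acc) t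
      (cl (apc S 1) (apc S 2) == (1, 2) && !Tc S) = true) : False := by
  simp only [Bool.and_eq_true, beq_iff_eq, Bool.not_eq_true'] at hl
  have ht : M (genN.getD 1 []) := h.gen _ (by decide)
  have hx : M (genN.getD 4 []) := h.gen _ (by decide)
  have hS := h.word_mem [sgc 1 d, genN.getD 1 [], genN.getD 4 [], genN.getD 1 [], sgc 1 d',
    genN.getD 1 [], genN.getD 4 [], genN.getD 1 [], sgc 1 d, genN.getD 1 []] (by
      intro g hg
      simp only [List.mem_cons, List.not_mem_nil, or_false] at hg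
      rcases hg with rfl | rfl | rfl | rfl | rfl | rfl | rfl | rfl | rfl | rfl
      · exact h.sieg hd
      · exact ht
      · exact hx
      · exact ht
      · exact h.sieg hd'
      · exact ht
      · exact hx
      · exact ht
      · exact h.sieg hd
      · exact ht) _ ht
  have := h.T hS hl.1
  rw [hl.2] at this
  exact Bool.false_ne_true this

theorem not48 (h : USet M U) (h4 : U 1 4) (h8 : U 1 8) : False :=
  not_two h h4 h8 (by decide +kernel)

theorem not412 (h : USet M U) (h4 : U 1 4) (h8 : U 1 12) : False :=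
  not_two h h4 h8 (by decide +kernel)

theorem not812 (h : USet M U) (h4 : U 1 8) (h8 : U 1 12) : False :=
  not_two h h4 h8 (by decide +kernel)

/-- the set of lines of a tree -/
def lines (T : List (List (Nat × Nat × Nat × Nat × Nat))) : List (Nat × Nat) :=
  T.flatten.map fun e => (e.1, e.2.1)

theorem mem_lines {T : List (List (Nat × Nat × Nat × Nat × Nat))} {p : Nat × Nat} :
    p ∈ lines T ↔ ∃ e ∈ T.flatten, e.1 = p.1 ∧ e.2.1 = p.2 := by
  unfold lines
  rw [List.mem_map]
  constructor
  · rintro ⟨e, he, rfl⟩; exact ⟨e, he, rfl, rfl⟩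
  · rintro ⟨e, he, h1, h2⟩; exact ⟨e, he, Prod.ext h1 h2⟩

theorem USet.cases (h : USet M U) {u v : Nat} (hu : U u v) :
    cl u v ∈ lines UTree.T45 ∨ (cl u v ∈ lines UTree.TA4 ∧ U 1 4) ∨
      (cl u v ∈ lines UTree.TA8 ∧ U 1 8) ∨ (cl u v ∈ lines UTree.TA12 ∧ U 1 12) := by
  obtain ⟨a1, a2, a3⟩ := h.isLine_cl hu
  have hb := cover _ a1 _ a2 a3
  rw [← mask_eq] at hb
  have hm := testBit_maskOf _ _ hb
  have hcl := h.cl_of hu
  simp only [List.mem_append] at hm
  rcases hm with (((hm | hm) | hm) | hm) | hm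
  · obtain ⟨e, he, h1, h2⟩ := mem_keys (all_lt UTree.T45 (by simp)) a2 hm
    exact Or.inl (mem_lines.2 ⟨e, he, h1, h2⟩)
  · obtain ⟨e, he, h1, h2⟩ := mem_keys (all_lt UTree.TA4 (by simp)) a2 hm
    refine Or.inr (Or.inl ⟨mem_lines.2 ⟨e, he, h1, h2⟩, ?_⟩)
    rw [← h.TA4 e he, h1, h2]; exact hcl
  · obtain ⟨e, he, h1, h2⟩ := mem_keys (all_lt UTree.TA8 (by simp)) a2 hm
    refine Or.inr (Or.inr (Or.inl ⟨mem_lines.2 ⟨e, he, h1, h2⟩, ?_⟩))
    rw [← h.TA8 e he, h1, h2]; exact hcl
  · obtain ⟨e, he, h1, h2⟩ := mem_keys (all_lt UTree.TA12 (by simp)) a2 hm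
    refine Or.inr (Or.inr (Or.inr ⟨mem_lines.2 ⟨e, he, h1, h2⟩, ?_⟩))
    rw [← h.TA12 e he, h1, h2]; exact hcl
  · obtain ⟨e, he, h1, h2⟩ := mem_keys (all_lt UTree.TB (by simp)) a2 hm
    exact absurd ((h.TB e he).1 (by rw [h1, h2]; exact hcl)) (not_beta h)

theorem USet.mem45 (h : USet M U) {u v : Nat} (hm : cl u v ∈ lines UTree.T45) : U u v := by
  obtain ⟨e, he, h1, h2⟩ := mem_lines.1 hm
  apply h.of_cl
  rw [← h1, ← h2]
  exact (h.T45 e he).2 trivial

theorem USet.memA4 (h : USet M U) (h4 : U 1 4) {u v : Nat} (hm : cl u v ∈ lines UTree.TA4) : U u v := by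
  obtain ⟨e, he, h1, h2⟩ := mem_lines.1 hm
  apply h.of_cl
  rw [← h1, ← h2]
  exact (h.TA4 e he).2 h4

theorem USet.memA8 (h : USet M U) (h4 : U 1 8) {u v : Nat} (hm : cl u v ∈ lines UTree.TA8) : U u v := by
  obtain ⟨e, he, h1, h2⟩ := mem_lines.1 hm
  apply h.of_cl
  rw [← h1, ← h2]
  exact (h.TA8 e he).2 h4

theorem USet.memA12 (h : USet M U) (h4 : U 1 12) {u v : Nat} (hm : cl u v ∈ lines UTree.TA12) :
    U u v := by
  obtain ⟨e, he, h1, h2⟩ := mem_lines.1 hm
  apply h.of_cl
  rw [← h1, ← h2]
  exact (h.TA12 e he).2 h4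

/-- **The enumeration.**  Either the U-lines are the 45 lines of `N₀`, or they are these and exactly one of the three
orbits of 270 lines. -/
theorem enum_codes (h : USet M U) :
    (∀ u v, U u v ↔ cl u v ∈ lines UTree.T45) ∨
    (∀ u v, U u v ↔ cl u v ∈ lines UTree.T45 ∨ cl u v ∈ lines UTree.TA4) ∨
    (∀ u v, U u v ↔ cl u v ∈ lines UTree.T45 ∨ cl u v ∈ lines UTree.TA8) ∨
    (∀ u v, U u v ↔ cl u v ∈ lines UTree.T45 ∨ cl u v ∈ lines UTree.TA12) := by
  by_cases h4 : U 1 4
  · right; left
    intro u v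
    constructor
    · intro hu
      rcases h.cases hu with h1 | h1 | h1 | h1
      · exact Or.inl h1
      · exact Or.inr h1.1
      · exact (not48 h h4 h1.2).elim
      · exact (not412 h h4 h1.2).elim
    · rintro (h1 | h1)
      · exact h.mem45 h1
      · exact h.memA4 h4 h1
  · by_cases h8 : U 1 8
    · right; right; left
      intro u v
      constructor
      · intro hu
        rcases h.cases hu with h1 | h1 | h1 | h1
        · exact Or.inl h1
        · exact (h4 h1.2).elim
        · exact Or.inr h1.1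
        · exact (not812 h h8 h1.2).elim
      · rintro (h1 | h1)
        · exact h.mem45 h1
        · exact h.memA8 h8 h1
    · by_cases h12 : U 1 12
      · right; right; right
        intro u v
        constructor
        · intro hu
          rcases h.cases hu with h1 | h1 | h1 | h1
          · exact Or.inl h1
          · exact (h4 h1.2).elim
          · exact (h8 h1.2).elim
          · exact Or.inr h1.1
        · rintro (h1 | h1)
          · exact h.mem45 h1
          · exact h.memA12 h12 h1
      · left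
        intro u v
        constructor
        · intro hu
          rcases h.cases hu with h1 | h1 | h1 | h1
          · exact h1
          · exact (h4 h1.2).elim
          · exact (h8 h1.2).elim
          · exact (h12 h1.2).elim
        · exact fun h1 => h.mem45 h1

end Cfsg.Agent.LargeExtra.Nine.UEnum
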