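import Cfsg.Agent.LargeExtra.Nine.SpPerm
import Cfsg.Agent.LargeExtra.Nine.SpData
import Cfsg.Agent.LargeExtra.Nine.UEnum
import Cfsg.Agent.LargeExtra.KillNine.Codes

/-!
# S1763, the case `Sp(6, 2)`: the group permuting the 315 lines is `Sp(6, 2)`

`nonempty_sp`: let `H` be a group of linear maps of `V = Q / ⟨z⟩` which in the coordinates `φ` preserves the
collinearity relation `adj` of the 315 lines `T45 ∪ TA4` and contains their Siegel elements. Then
`H ≃* Sp(6, 2)`.
-/

set_option autoImplicit false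

namespace Cfsg.Agent.LargeExtra.Nine.SpSix

open Cfsg.Agent.Co2Type.Quad Cfsg.Agent.LargeExtra.Base Cfsg.Agent.LargeExtra.Nine
open UTree UCode UEnum SpData SpPerm
open Cfsg.Agent.LargeExtra.KillNine.Codes (ap mulL vec_zero vec_xor lin_vec exists_code vec_inj
  basis_vec lin_mulL)
open Cfsg.Agent.ClassicalGeometry.SympBasic

/-! ### codes -/

theorem apc_eq {L : List ℕ} (hL : L.length = 8) (n : ℕ) : apc L n = ap L n := by
  match L, hL with
  | [a0, a1, a2, a3, a4, a5, a6, a7], _ =>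
    -- by definition (so that no unfolding lemma of `apc` is generated in this file)
    have ac : ∀ (a : ℕ) (M : List ℕ) (v : ℕ),
        apc (a :: M) v = Nat.xor (cond (Nat.testBit v 0) a 0) (apc M (v / 2)) := fun _ _ _ => rfl
    have an : ∀ v : ℕ, apc [] v = 0 := fun _ => rfl
    simp only [ac, an, ap, List.getD_cons_zero, List.getD_cons_succ]
    have h : ∀ k : ℕ, Nat.testBit (k / 2) 0 = Nat.testBit k 1 := fun k => Nat.testBit_div_two k 0
    have e1 : Nat.testBit (n / 2) 0 = Nat.testBit n 1 := Nat.testBit_div_two n 0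
    have e2 : Nat.testBit (n / 2 / 2) 0 = Nat.testBit n 2 := by
      rw [Nat.testBit_div_two, Nat.testBit_div_two]
    have e3 : Nat.testBit (n / 2 / 2 / 2) 0 = Nat.testBit n 3 := by
      rw [Nat.testBit_div_two, Nat.testBit_div_two, Nat.testBit_div_two]
    have e4 : Nat.testBit (n / 2 / 2 / 2 / 2) 0 = Nat.testBit n 4 := by
      rw [Nat.testBit_div_two, Nat.testBit_div_two, Nat.testBit_div_two, Nat.testBit_div_two]
    have e5 : Nat.testBit (n / 2 / 2 / 2 / 2 / 2) 0 = Nat.testBit n 5 := by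
      rw [Nat.testBit_div_two, Nat.testBit_div_two, Nat.testBit_div_two, Nat.testBit_div_two,
        Nat.testBit_div_two]
    have e6 : Nat.testBit (n / 2 / 2 / 2 / 2 / 2 / 2) 0 = Nat.testBit n 6 := by
      rw [Nat.testBit_div_two, Nat.testBit_div_two, Nat.testBit_div_two, Nat.testBit_div_two,
        Nat.testBit_div_two, Nat.testBit_div_two]
    have e7 : Nat.testBit (n / 2 / 2 / 2 / 2 / 2 / 2 / 2) 0 = Nat.testBit n 7 := by
      rw [Nat.testBit_div_two, Nat.testBit_div_two, Nat.testBit_div_two, Nat.testBit_div_two,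
        Nat.testBit_div_two, Nat.testBit_div_two, Nat.testBit_div_two]
    rw [e1, e2, e3, e4, e5, e6, e7]
    have hx : ∀ a b : ℕ, Nat.xor a b = a ^^^ b := fun _ _ => rfl
    have h0 : ∀ a : ℕ, a ^^^ 0 = a := Nat.xor_zero
    simp only [hx, h0, Bool.cond_eq_ite, Nat.xor_assoc]

theorem lin_vec' {L : List ℕ} (hL : L.length = 8) (n : ℕ) : lin L (vec n) = vec (apc L n) := by
  rw [lin_vec, apc_eq hL]

theorem vec_xor' (a b : ℕ) : vec (Nat.xor a b) = vec a + vec b := vec_xor a b

section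

variable {G : Type*} [Group G] {Q : Subgroup G} {z : G} {h : Large Q z} {φ : Coord h}

theorem acts_comp {L M : List ℕ} (hL : L.length = 8) {f g : h.V ≃ₗ[ZMod 2] h.V}
    (hf : Acts φ L f) (hg : Acts φ M g) : Acts φ (comp L M) (f * g) := by
  have e : comp L M = mulL M L := by
    unfold comp mulL
    exact List.map_congr_left fun a _ => apc_eq hL a
  rw [e]
  exact KillNine.Codes.Acts.mul hg hf

end

/-! ### the quads as subspaces -/

theorem mem_combos {p q r s n : ℕ} : n ∈ combos p q r s ↔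
    ∃ A, (A = 0 ∨ A = p) ∧ ∃ B, (B = 0 ∨ B = q) ∧ ∃ C, (C = 0 ∨ C = r) ∧ ∃ D, (D = 0 ∨ D = s) ∧
      A ^^^ (B ^^^ (C ^^^ D)) = n := by
  have hm : ∀ a b : ℕ, a ∈ [0, b] ↔ (a = 0 ∨ a = b) := fun a b => by
    rw [List.mem_cons, List.mem_singleton]
  unfold combos
  constructor
  · intro h1
    obtain ⟨A, hA, h1⟩ := List.mem_flatMap.1 h1
    obtain ⟨B, hB, h1⟩ := List.mem_flatMap.1 h1
    obtain ⟨C, hC, h1⟩ := List.mem_flatMap.1 h1
    obtain ⟨D, hD, h1⟩ := List.mem_map.1 h1
    exact ⟨A, (hm _ _).1 hA, B, (hm _ _).1 hB, C, (hm _ _).1 hC, D, (hm _ _).1 hD, h1⟩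
  · rintro ⟨A, hA, B, hB, C, hC, D, hD, h1⟩
    exact List.mem_flatMap.2 ⟨A, (hm _ _).2 hA, List.mem_flatMap.2 ⟨B, (hm _ _).2 hB,
      List.mem_flatMap.2 ⟨C, (hm _ _).2 hC, List.mem_map.2 ⟨D, (hm _ _).2 hD, h1⟩⟩⟩⟩

theorem xor_lt {a b : ℕ} (ha : a < 256) (hb : b < 256) : a ^^^ b < 256 :=
  Nat.xor_lt_two_pow (n := 8) ha hb

theorem smul_vec (a : ZMod 2) (p : ℕ) : ∃ A, (A = 0 ∨ A = p) ∧ a • vec p = vec A := by
  have h2 : a = 0 ∨ a = 1 := by revert a; decide
  rcases h2 with rfl | rfl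
  · exact ⟨0, Or.inl rfl, by rw [zero_smul, vec_zero]⟩
  · exact ⟨p, Or.inr rfl, by rw [one_smul]⟩

theorem vec_mem_span {p q r s n : ℕ} (hp : p < 256) (hq : q < 256) (hr : r < 256) (hs : s < 256)
    (hn : n < 256) :
    vec n ∈ Submodule.span (ZMod 2) ({vec p, vec q, vec r, vec s} : Set F8) ↔ n ∈ combos p q r s := by
  rw [mem_combos]
  constructor
  · intro h1
    rw [Submodule.mem_span_insert] at h1
    obtain ⟨a, x, hx, h1⟩ := h1
    rw [Submodule.mem_span_insert] at hx
    obtain ⟨b, y, hy, rfl⟩ := hx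
    rw [Submodule.mem_span_insert] at hy
    obtain ⟨c, w, hw, rfl⟩ := hy
    rw [Submodule.mem_span_singleton] at hw
    obtain ⟨d, rfl⟩ := hw
    obtain ⟨A, hA, eA⟩ := smul_vec a p
    obtain ⟨B, hB, eB⟩ := smul_vec b q
    obtain ⟨C, hC, eC⟩ := smul_vec c r
    obtain ⟨D, hD, eD⟩ := smul_vec d s
    refine ⟨A, hA, B, hB, C, hC, D, hD, ?_⟩
    have hA' : A < 256 := by rcases hA with rfl | rfl <;> omega
    have hB' : B < 256 := by rcases hB with rfl | rfl <;> omega
    have hC' : C < 256 := by rcases hC with rfl | rfl <;> omega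
    have hD' : D < 256 := by rcases hD with rfl | rfl <;> omega
    apply vec_inj _ (xor_lt hA' (xor_lt hB' (xor_lt hC' hD'))) _ hn
    rw [vec_xor, vec_xor, vec_xor, ← eA, ← eB, ← eC, ← eD]
    exact h1.symm
  · rintro ⟨A, hA, B, hB, C, hC, D, hD, rfl⟩
    have key : ∀ x y : ℕ, vec y ∈ ({vec p, vec q, vec r, vec s} : Set F8) → (x = 0 ∨ x = y) →
        vec x ∈ Submodule.span (ZMod 2) ({vec p, vec q, vec r, vec s} : Set F8) := by
      rintro x y hy (rfl | rfl)
      · rw [vec_zero]; exact Submodule.zero_mem _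
      · exact Submodule.subset_span hy
    rw [vec_xor, vec_xor, vec_xor]
    exact Submodule.add_mem _ (key A p (by simp) hA) (Submodule.add_mem _ (key B q (by simp) hB)
      (Submodule.add_mem _ (key C r (by simp) hC) (key D s (by simp) hD)))

/-- the quad `c` -/
def T (c : ℕ) : Submodule (ZMod 2) F8 :=
  if c = 0 then ⊤ else
    Submodule.span (ZMod 2) {vec (cf c).1, vec (cf c).2.1, vec (cf c).2.2.1, vec (cf c).2.2.2}

theorem T_zero : T 0 = ⊤ := if_pos rfl

theorem T_ne {c : ℕ} (hc : c ≠ 0) : T c =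
    Submodule.span (ZMod 2) {vec (cf c).1, vec (cf c).2.1, vec (cf c).2.2.1, vec (cf c).2.2.2} :=
  if_neg hc

theorem blt_iff {a b : ℕ} : Nat.blt a b = true ↔ a < b := by
  unfold Nat.blt
  rw [Nat.ble_eq]
  rfl

theorem beq_iff {a b : ℕ} : Nat.beq a b = true ↔ a = b := Nat.beq_eq ▸ Iff.rfl

structure Conf (p q r s : ℕ) : Prop where
  pr : adj p r = true
  rq : adj r q = true
  qs : adj q s = true
  sp : adj s p = true
  npq : adj p q = false
  ne : p ≠ q
  hp : p < 256
  hq : q < 256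
  hr : r < 256
  hs : s < 256

theorem conf_cf {c : ℕ} (hc : c < 64) (h0 : c ≠ 0) :
    Conf (cf c).1 (cf c).2.1 (cf c).2.2.1 (cf c).2.2.2 := by
  have h1 := conf_ok c hc h0
  unfold chk3 at h1
  simp only [Bool.and_eq_true, Bool.not_eq_true', blt_iff] at h1
  obtain ⟨⟨h1, h2, h3, h4, h5, h6⟩, ⟨h7, h8⟩, h9, h10⟩ := h1
  refine ⟨h1, h2, h3, h4, h5, ?_, h7, h8, h9, h10⟩
  intro h
  rw [beq_iff.2 h] at h6
  exact Bool.noConfusion h6

theorem testBit_full (n : ℕ) : Nat.testBit full n = decide (n < 256) := by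
  show Nat.testBit (2 ^ 256 - 1) n = _
  exact Nat.testBit_two_pow_sub_one 256 n

theorem testBit_row (p n : ℕ) : Nat.testBit (row p) n = (adj p n && decide (n < 256)) := by
  unfold row adj
  rw [show Nat.land (Nat.shiftRight RM (256 * p)) full = (RM >>> (256 * p)) &&& full from rfl,
    Nat.testBit_and, Nat.testBit_shiftRight, testBit_full]

theorem testBit_qmask (c n : ℕ) : Nat.testBit (qmask c) n = (inQ c n && decide (n < 256)) := by
  unfold qmask inQ
  rw [show Nat.land (Nat.shiftRight QM (256 * c)) full = (QM >>> (256 * c)) &&& full from rfl,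
    Nat.testBit_and, Nat.testBit_shiftRight, testBit_full]

theorem testBit_land (a b n : ℕ) : Nat.testBit (Nat.land a b) n = (Nat.testBit a n && Nat.testBit b n) :=
  Nat.testBit_and a b n

theorem mem_maskOf {k : ℕ} : ∀ {L : List ℕ}, k ∈ L → Nat.testBit (maskOf L) k = true := by
  intro L
  induction L with
  | nil => intro h; exact absurd h List.not_mem_nil
  | cons a L ih =>
    intro h
    show (1 <<< a ||| maskOf L).testBit k = true
    rw [Nat.testBit_or, Bool.or_eq_true]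
    rcases List.mem_cons.1 h with rfl | h
    · left
      rw [Nat.testBit_shiftLeft]
      simp
    · right; exact ih h

theorem inQ_iff {c n : ℕ} (hc : c < 64) (h0 : c ≠ 0) (hn : n < 256) :
    inQ c n = true ↔ n ∈ combos (cf c).1 (cf c).2.1 (cf c).2.2.1 (cf c).2.2.2 := by
  have h1 : Nat.testBit (qmask c) n = inQ c n := by
    rw [testBit_qmask, decide_eq_true hn, Bool.and_true]
  rw [← h1, ← qmask_eq c hc h0]
  exact ⟨testBit_maskOf n _, mem_maskOf⟩

theorem inQ_zero {n : ℕ} (hn : n < 256) : inQ 0 n = true := by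
  have h1 : Nat.testBit (qmask 0) n = inQ 0 n := by
    rw [testBit_qmask, decide_eq_true hn, Bool.and_true]
  rw [← h1, qmask_zero, testBit_full, decide_eq_true hn]

theorem mem_T {c n : ℕ} (hc : c < 64) (hn : n < 256) : vec n ∈ T c ↔ inQ c n = true := by
  by_cases h0 : c = 0
  · rw [h0, T_zero]
    exact iff_of_true Submodule.mem_top (inQ_zero hn)
  · have h1 := conf_cf hc h0
    rw [T_ne h0, vec_mem_span h1.hp h1.hq h1.hr h1.hs hn, ← inQ_iff hc h0 hn]

theorem T_le {c : ℕ} (h0 : c ≠ 0) {W : Submodule (ZMod 2) F8}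
    (h1 : vec (cf c).1 ∈ W) (h2 : vec (cf c).2.1 ∈ W) (h3 : vec (cf c).2.2.1 ∈ W)
    (h4 : vec (cf c).2.2.2 ∈ W) : T c ≤ W := by
  rw [T_ne h0, Submodule.span_le]
  rintro x (rfl | rfl | rfl | rfl)
  · exact h1
  · exact h2
  · exact h3
  · exact h4

/-- two points at distance two and two common neighbours lie in a quad -/
theorem exists_quad {p q r s : ℕ} (hc : Conf p q r s) (hpr : adj q r = true) (hps : adj p s = true) :
    ∃ c < 64, c ≠ 0 ∧ inQ c p = true ∧ inQ c q = true ∧ inQ c r = true ∧ inQ c s = true := by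
  have h1 := allLT_spec quad_ex p hc.hp
  simp only [Bool.or_eq_true] at h1
  have hr : Nat.testBit (Nat.land (row p) (row q)) r = true := by
    rw [testBit_land, testBit_row, testBit_row, hc.pr, hpr, decide_eq_true hc.hr]; rfl
  have hs : Nat.testBit (Nat.land (row p) (row q)) s = true := by
    rw [testBit_land, testBit_row, testBit_row, hps, hc.qs, decide_eq_true hc.hs]; rfl
  have e1 : Nat.beq p q = false := by
    rw [← Bool.not_eq_true, beq_iff]; exact hc.ne
  have e2 : Nat.beq (Nat.land (row p) (row q)) 0 = false := by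
    rw [← Bool.not_eq_true, beq_iff]
    intro h0
    rw [h0, Nat.zero_testBit] at hr
    exact Bool.noConfusion hr
  have e3 : ∀ {x y : ℕ}, adj x y = true → y < 256 → ¬ (Nat.beq (row x) 0 = true) := by
    intro x y hxy hy h0
    have h3 : Nat.testBit (row x) y = true := by
      rw [testBit_row, hxy, decide_eq_true hy]; rfl
    rw [beq_iff.1 h0, Nat.zero_testBit] at h3
    exact Bool.noConfusion h3
  have h1 := h1.resolve_left (e3 hc.pr hc.hr)
  have h1 := allLT_spec h1 q hc.hq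
  simp only [Bool.or_eq_true] at h1
  have h1 := h1.resolve_left (e3 hc.qs hc.hs)
  unfold chk2 at h1
  simp only [e1, e2, hc.npq, Bool.false_or, Bool.and_eq_true, blt_iff, beq_iff] at h1
  obtain ⟨⟨h2, h3⟩, ⟨h4, h5⟩, h6⟩ := h1
  refine ⟨_, h3, by omega, h4, h5, ?_, ?_⟩
  · rw [← h6, testBit_land, testBit_qmask] at hr
    simp only [Bool.and_eq_true] at hr
    exact hr.2.1
  · rw [← h6, testBit_land, testBit_qmask] at hs
    simp only [Bool.and_eq_true] at hs
    exact hs.2.1

/-! ### the index set -/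

/-- the vector of `F₂^6` of a code -/
def dec (n : ℕ) : Fin 3 ⊕ Fin 3 → ZMod 2 :=
  Sum.elim (fun i => if n.testBit i then 1 else 0) (fun i => if n.testBit (i + 3) then 1 else 0)

/-- the code of a vector of `F₂^6` -/
def enc (x : Fin 3 ⊕ Fin 3 → ZMod 2) : ℕ :=
  (if x (Sum.inl 0) = 1 then 1 else 0) + (if x (Sum.inl 1) = 1 then 2 else 0) +
  (if x (Sum.inl 2) = 1 then 4 else 0) + (if x (Sum.inr 0) = 1 then 8 else 0) +
  (if x (Sum.inr 1) = 1 then 16 else 0) + (if x (Sum.inr 2) = 1 then 32 else 0)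

theorem enc_spec : ∀ x : Fin 3 ⊕ Fin 3 → ZMod 2, enc x < 64 ∧ ∀ j, dec (enc x) j = x j := by
  decide +kernel

theorem enc_lt (x : Fin 3 ⊕ Fin 3 → ZMod 2) : enc x < 64 := (enc_spec x).1

theorem dec_enc (x : Fin 3 ⊕ Fin 3 → ZMod 2) : dec (enc x) = x := funext (enc_spec x).2

theorem enc_dec : ∀ n < 64, enc (dec n) = n := by decide +kernel

theorem dec_xor (a b : ℕ) : dec (a ^^^ b) = dec a + dec b := by
  funext i
  rcases i with i | i <;> simp only [dec, Pi.add_apply, Nat.testBit_xor, Sum.elim_inl, Sum.elim_inr]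
  · cases a.testBit i <;> cases b.testBit i <;> decide
  · cases a.testBit (i + 3) <;> cases b.testBit (i + 3) <;> decide

theorem enc_eq_zero {x : Fin 3 ⊕ Fin 3 → ZMod 2} : enc x = 0 ↔ x = 0 := by
  have h0 : dec 0 = 0 := by decide +kernel
  have h1 : enc 0 = 0 := by decide +kernel
  constructor
  · intro h; rw [← dec_enc x, h, h0]
  · rintro rfl; exact h1

theorem form_dec : ∀ n < 64, ∀ m < 64, Cfsg.sympForm 3 (ZMod 2) (dec n) (dec m) =
    if formc n m then 1 else 0 := by
  have key : ∀ n < 64, ∀ m < 64,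
      (dec n (Sum.inr 0) * dec m (Sum.inl 0) - dec n (Sum.inl 0) * dec m (Sum.inr 0) +
      (dec n (Sum.inr 1) * dec m (Sum.inl 1) - dec n (Sum.inl 1) * dec m (Sum.inr 1)) +
      (dec n (Sum.inr 2) * dec m (Sum.inl 2) - dec n (Sum.inl 2) * dec m (Sum.inr 2))) =
      if formc n m then 1 else 0 := by decide +kernel
  intro n hn m hm
  rw [sympForm_eq_sum, Fin.sum_univ_three]
  exact key n hn m hm

theorem form_enc (x y : Fin 3 ⊕ Fin 3 → ZMod 2) : Cfsg.sympForm 3 (ZMod 2) x y =
    if formc (enc x) (enc y) then 1 else 0 := by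
  rw [← form_dec _ (enc_lt x) _ (enc_lt y), dec_enc, dec_enc]

theorem enc_transv (x w : Fin 3 ⊕ Fin 3 → ZMod 2) :
    enc (x + Cfsg.sympForm 3 (ZMod 2) x w • w) =
      cond (formc (enc x) (enc w)) (Nat.xor (enc x) (enc w)) (enc x) := by
  rw [form_enc]
  cases hf : formc (enc x) (enc w)
  · simp
  · simp only [if_true, one_smul, cond_true]
    have h1 : x + w = dec (enc x ^^^ enc w) := by rw [dec_xor, dec_enc, dec_enc]
    rw [h1]
    exact enc_dec _ (Nat.xor_lt_two_pow (n := 6) (enc_lt x) (enc_lt w))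

/-! ### the group -/

section Main

variable {G : Type*} [Group G] {Q : Subgroup G} {z : G} {h : Large Q z}

/-- `f` in coordinates -/
noncomputable def hat (φ : Coord h) (f : h.V ≃ₗ[ZMod 2] h.V) : F8 →ₗ[ZMod 2] F8 :=
  φ.e.toLinearMap ∘ₗ f.toLinearMap ∘ₗ φ.e.symm.toLinearMap

theorem hat_apply (φ : Coord h) (f : h.V ≃ₗ[ZMod 2] h.V) (v : h.V) : hat φ f (φ.e v) = φ.e (f v) := by
  show φ.e (f (φ.e.symm (φ.e v))) = _
  rw [φ.e.symm_apply_apply]

theorem hat_inv (φ : Coord h) (f : h.V ≃ₗ[ZMod 2] h.V) (x : F8) : hat φ f⁻¹ (hat φ f x) = x := by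
  show φ.e (f⁻¹ (φ.e.symm (φ.e (f (φ.e.symm x))))) = x
  rw [φ.e.symm_apply_apply]
  show φ.e (f.symm (f (φ.e.symm x))) = x
  rw [f.symm_apply_apply, φ.e.apply_symm_apply]

theorem hat_inj (φ : Coord h) (f : h.V ≃ₗ[ZMod 2] h.V) : Function.Injective (hat φ f) :=
  fun x y hxy => by rw [← hat_inv φ f x, hxy, hat_inv]

theorem hat_acts {φ : Coord h} {L : List ℕ} {f : h.V ≃ₗ[ZMod 2] h.V} (hf : Acts φ L f) (x : F8) :
    hat φ f x = lin L x := by
  obtain ⟨v, rfl⟩ := φ.e.surjective x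
  rw [hat_apply, hf v]

/-- the hypotheses on `H` -/
structure Hyp (φ : Coord h) (H : Subgroup (h.V ≃ₗ[ZMod 2] h.V)) : Prop where
  act : ∀ f ∈ H, ∀ u v u' v', u < 256 → v < 256 → u' < 256 → v' < 256 →
    hat φ f (vec u) = vec u' → hat φ f (vec v) = vec v' → adj u v = true → adj u' v' = true
  sieg : ∀ u v, u < 256 → v < 256 → adj u v = true → ∃ f ∈ H, Acts φ (sgc u v) f
  symm : ∀ u v, u < 256 → v < 256 → adj u v = true → adj v u = true

variable {φ : Coord h} {H : Subgroup (h.V ≃ₗ[ZMod 2] h.V)}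

theorem Hyp.map_quad (hH : Hyp φ H) {f : h.V ≃ₗ[ZMod 2] h.V} (hf : f ∈ H) {c : ℕ} (hc : c < 64)
    (h0 : c ≠ 0) : ∃ d < 64, d ≠ 0 ∧ ∀ x ∈ T c, hat φ f x ∈ T d := by
  have hcf := conf_cf hc h0
  generalize hp0 : (cf c).1 = p at hcf
  generalize hq0 : (cf c).2.1 = q at hcf
  generalize hr0 : (cf c).2.2.1 = r at hcf
  generalize hs0 : (cf c).2.2.2 = s at hcf
  obtain ⟨p', hp', ep⟩ := exists_code (hat φ f (vec p))
  obtain ⟨q', hq', eq⟩ := exists_code (hat φ f (vec q))
  obtain ⟨r', hr', er⟩ := exists_code (hat φ f (vec r))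
  obtain ⟨s', hs', es⟩ := exists_code (hat φ f (vec s))
  have hA := fun u v u' v' => hH.act f hf u v u' v'
  have hB := hH.act f⁻¹ (H.inv_mem hf)
  have hC : Conf p' q' r' s' :=
    { pr := hA p r p' r' hcf.hp hcf.hr hp' hr' ep er hcf.pr
      rq := hA r q r' q' hcf.hr hcf.hq hr' hq' er eq hcf.rq
      qs := hA q s q' s' hcf.hq hcf.hs hq' hs' eq es hcf.qs
      sp := hA s p s' p' hcf.hs hcf.hp hs' hp' es ep hcf.sp
      npq := by
        rw [← Bool.not_eq_true]
        intro h1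
        have h2 := hB p' q' p q hp' hq' hcf.hp hcf.hq (by rw [← ep, hat_inv])
          (by rw [← eq, hat_inv]) h1
        rw [hcf.npq] at h2
        exact Bool.noConfusion h2
      ne := by
        intro h1
        apply hcf.ne
        apply vec_inj _ hcf.hp _ hcf.hq
        apply hat_inj φ f
        rw [ep, eq, h1]
      hp := hp'
      hq := hq'
      hr := hr'
      hs := hs' }
  obtain ⟨d, hd, hd0, h1, h2, h3, h4⟩ := exists_quad hC (hH.symm _ _ hr' hq' hC.rq)
    (hH.symm _ _ hs' hp' hC.sp)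
  refine ⟨d, hd, hd0, ?_⟩
  have hle : T c ≤ (T d).comap (hat φ f) := by
    apply T_le h0
    · rw [hp0, Submodule.mem_comap, ep, mem_T hd hp']; exact h1
    · rw [hq0, Submodule.mem_comap, eq, mem_T hd hq']; exact h2
    · rw [hr0, Submodule.mem_comap, er, mem_T hd hr']; exact h3
    · rw [hs0, Submodule.mem_comap, es, mem_T hd hs']; exact h4
  exact fun x hx => hle hx

theorem qmask_iff {c n : ℕ} (hn : n < 256) : Nat.testBit (qmask c) n = inQ c n := by
  rw [testBit_qmask, decide_eq_true hn, Bool.and_true]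

theorem Hyp.trans (hH : Hyp φ H) {w : ℕ} (hw : w < 64) (hw0 : w ≠ 0) :
    ∃ f ∈ H, ∀ c < 64, c ≠ 0 → ∀ x ∈ T c, hat φ f x ∈ T (cond (formc c w) (Nat.xor c w) c) := by
  have h7 := prod_ok w hw hw0
  unfold chk7 at h7
  generalize PL.getD w ((0, 0), (0, 0), (0, 0)) = x at h7
  obtain ⟨⟨a1, a2⟩, ⟨b1, b2⟩, c1, c2⟩ := x
  simp only [Bool.and_eq_true, blt_iff, beq_iff_eq] at h7
  obtain ⟨h7, ⟨⟨ha1, ha2⟩, ⟨hb1, hb2⟩, hc1, hc2⟩, ha, hb, hc⟩ := h7
  obtain ⟨f1, hf1, e1⟩ := hH.sieg _ _ ha1 ha2 ha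
  obtain ⟨f2, hf2, e2⟩ := hH.sieg _ _ hb1 hb2 hb
  obtain ⟨f3, hf3, e3⟩ := hH.sieg _ _ hc1 hc2 hc
  have hl : ∀ u v, (sgc u v).length = 8 := fun u v => rfl
  have hA : Acts φ (Y w) (f1 * (f2 * f3)) := by
    rw [← h7]
    exact acts_comp (hl _ _) e1 (acts_comp (hl _ _) e2 e3)
  have hY : (Y w).length = 8 := by
    rw [← h7]
    simp [comp, sgc]
  refine ⟨_, H.mul_mem hf1 (H.mul_mem hf2 hf3), ?_⟩
  intro c hc hc0
  have h6 := allLT_spec trans_ok w hw
  simp only [Bool.or_eq_true] at h6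
  have h6 := h6.resolve_left (fun h0 => hw0 (beq_iff.1 h0))
  have h6 := allLT_spec h6 c hc
  simp only [Bool.or_eq_true] at h6
  have h6 := h6.resolve_left (fun h0 => hc0 (beq_iff.1 h0))
  unfold chk6 at h6
  simp only [Bool.and_eq_true] at h6
  have hd : cond (formc c w) (Nat.xor c w) c < 64 := by
    cases formc c w
    · exact hc
    · exact Nat.xor_lt_two_pow (n := 6) hc hw
  generalize cond (formc c w) (Nat.xor c w) c = d at h6 hd
  have key : ∀ n, Nat.testBit (qmask d) (apc (Y w) n) = true →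
      hat φ (f1 * (f2 * f3)) (vec n) ∈ T d := by
    intro n hn
    rw [testBit_qmask] at hn
    simp only [Bool.and_eq_true, decide_eq_true_eq] at hn
    rw [hat_acts hA, lin_vec' hY, mem_T hd hn.2]
    exact hn.1
  obtain ⟨⟨k1, k2⟩, k3, k4⟩ := h6
  have hle : T c ≤ (T d).comap (hat φ (f1 * (f2 * f3))) := by
    apply T_le hc0
    · exact key _ k1
    · exact key _ k2
    · exact key _ k3
    · exact key _ k4
  exact fun x hx => hle hx

theorem form_T {c d : ℕ} (hc : c < 64) (hd : d < 64) :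
    (∃ n < 256, n ≠ 0 ∧ inQ c n = true ∧ inQ d n = true) ↔ formc c d = false := by
  have h1 := allLT_spec (allLT_spec form_ok c hc) d hd
  unfold chk4 at h1
  cases hf : formc c d
  · simp only [hf, cond_false, Bool.and_eq_true, blt_iff] at h1
    refine iff_of_true ?_ rfl
    exact ⟨_, h1.1.2, by omega, h1.2.1, h1.2.2⟩
  · simp only [hf, cond_true, beq_iff] at h1
    refine iff_of_false ?_ (by simp)
    rintro ⟨n, hn, hn0, h2, h3⟩
    have h4 : Nat.testBit (Nat.land (qmask c) (qmask d)) n = true := by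
      rw [testBit_land, qmask_iff hn, qmask_iff hn, h2, h3]; rfl
    rw [h1] at h4
    exact hn0 (Nat.testBit_one_eq_true_iff_self_eq_zero.1 h4)

/-- the family of sets -/
def S (φ : Coord h) (c : Fin 3 ⊕ Fin 3 → ZMod 2) : Set h.V := {v | φ.e v ∈ T (enc c)}

theorem mem_S {c : Fin 3 ⊕ Fin 3 → ZMod 2} {v : h.V} : v ∈ S φ c ↔ φ.e v ∈ T (enc c) := Iff.rfl

theorem exists_code' (φ : Coord h) (v : h.V) : ∃ n < 256, φ.e v = vec n := exists_code _

theorem Hyp.fam (hH : Hyp φ H) : Fam H (S φ) where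
  zero := by
    ext v
    rw [mem_S, enc_eq_zero.2 rfl, T_zero]
    exact iff_of_true Submodule.mem_top (Set.mem_univ _)
  ne_univ := by
    intro c hc h1
    apply univ_ok (enc c) (enc_lt c) (fun h => hc (enc_eq_zero.1 h))
    apply Nat.eq_of_testBit_eq
    intro n
    rw [testBit_qmask, testBit_full]
    by_cases hn : n < 256
    · rw [decide_eq_true hn, Bool.and_true]
      have h2 : φ.e.symm (vec n) ∈ S φ c := by rw [h1]; exact Set.mem_univ _
      rw [mem_S, φ.e.apply_symm_apply, mem_T (enc_lt c) hn] at h2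
      exact h2
    · rw [decide_eq_false hn, Bool.and_false]
  anti := by
    intro c d hc hd h1
    have h2 := allLT_spec anti_ok (enc c) (enc_lt c)
    simp only [Bool.or_eq_true] at h2
    have h2 := h2.resolve_left (fun h0 => hc (enc_eq_zero.1 (beq_iff.1 h0)))
    have h2 := allLT_spec h2 (enc d) (enc_lt d)
    simp only [Bool.or_eq_true] at h2
    rcases h2.resolve_left (fun h0 => hd (enc_eq_zero.1 (beq_iff.1 h0))) with h3 | h3
    · rw [← dec_enc c, beq_iff.1 h3, dec_enc]
    · exfalso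
      rw [Bool.not_eq_true', ← Bool.not_eq_true, beq_iff] at h3
      apply h3
      apply Nat.eq_of_testBit_eq
      intro n
      rw [testBit_land, testBit_qmask, testBit_qmask]
      by_cases hn : n < 256
      · rw [decide_eq_true hn, Bool.and_true, Bool.and_true]
        cases h4 : inQ (enc c) n
        · rfl
        · have h5 : φ.e.symm (vec n) ∈ S φ c := by
            rw [mem_S, φ.e.apply_symm_apply, mem_T (enc_lt c) hn]; exact h4
          have h6 := h1 h5
          rw [mem_S, φ.e.apply_symm_apply, mem_T (enc_lt d) hn] at h6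
          rw [h6]; rfl
      · rw [decide_eq_false hn, Bool.and_false, Bool.false_and]
  map := by
    intro f hf c hc
    obtain ⟨d, hd, hd0, h1⟩ := hH.map_quad hf (enc_lt c) (fun h => hc (enc_eq_zero.1 h))
    refine ⟨dec d, ?_, ?_⟩
    · intro h0
      apply hd0
      rw [← enc_dec d hd, h0]
      exact enc_eq_zero.2 rfl
    · intro v hv
      rw [mem_S, enc_dec d hd, ← hat_apply]
      exact h1 _ hv
  form := by
    intro c d
    have h1 : Cfsg.sympForm 3 (ZMod 2) c d = 0 ↔ formc (enc c) (enc d) = false := by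
      rw [form_enc]
      cases formc (enc c) (enc d) <;> simp
    rw [h1, ← form_T (enc_lt c) (enc_lt d)]
    constructor
    · rintro ⟨v, hv, h2, h3⟩
      obtain ⟨n, hn, e⟩ := exists_code' φ v
      rw [mem_S, e, mem_T (enc_lt _) hn] at h2 h3
      refine ⟨n, hn, ?_, h2, h3⟩
      rintro rfl
      rw [vec_zero] at e
      exact hv (φ.e.map_eq_zero_iff.1 e)
    · rintro ⟨n, hn, hn0, h2, h3⟩
      refine ⟨φ.e.symm (vec n), ?_, ?_, ?_⟩
      · intro h4
        rw [φ.e.symm.map_eq_zero_iff, ← vec_zero] at h4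
        exact hn0 (vec_inj _ hn _ (by norm_num) h4)
      · rw [mem_S, φ.e.apply_symm_apply, mem_T (enc_lt _) hn]; exact h2
      · rw [mem_S, φ.e.apply_symm_apply, mem_T (enc_lt _) hn]; exact h3
  fix := by
    intro f hf h1
    have h2 : ∀ i < 8, hat φ f (vec (2 ^ i)) = vec (2 ^ i) := by
      intro i hi
      have hi2 : 2 ^ i < 256 := by
        calc 2 ^ i < 2 ^ 8 := Nat.pow_lt_pow_right (by norm_num) hi
          _ = 256 := by norm_num
      obtain ⟨n, hn, e⟩ := exists_code (hat φ f (vec (2 ^ i)))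
      have h3 := allLT_spec (allLT_spec fix_ok i hi) n hn
      simp only [Bool.or_eq_true, beq_iff] at h3
      rcases h3 with h3 | h3 | h3
      · exfalso
        rw [h3, vec_zero, ← map_zero (hat φ f)] at e
        have h4 := hat_inj φ f e
        rw [← vec_zero] at h4
        have h5 := vec_inj _ hi2 _ (by norm_num) h4
        exact absurd h5 (by positivity)
      · rw [e, h3]
      · exfalso
        rw [Bool.not_eq_true', ← Bool.not_eq_true] at h3
        apply h3
        have key : ∀ c < 64, (!inQ c (2 ^ i) || inQ c n) = true := by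
          intro c hc
          cases h4 : inQ c (2 ^ i)
          · rfl
          · have h5 : φ.e.symm (vec (2 ^ i)) ∈ S φ (dec c) := by
              rw [mem_S, φ.e.apply_symm_apply, enc_dec c hc, mem_T hc hi2]; exact h4
            have h6 := h1 _ _ h5
            rw [mem_S, ← hat_apply, φ.e.apply_symm_apply, enc_dec c hc, e, mem_T hc hn] at h6
            rw [h6]; rfl
        have allLT_of : ∀ (g : ℕ → Bool) (k : ℕ), (∀ j < k, g j = true) → allLT g k = true := by
          intro g k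
          induction k with
          | zero => intro _; rfl
          | succ k ih =>
            intro hg
            simp only [allLT, Bool.and_eq_true]
            exact ⟨hg k (Nat.lt_succ_self k), ih fun j hj => hg j (Nat.lt_succ_of_lt hj)⟩
        exact allLT_of _ _ key
    have h3 : hat φ f = LinearMap.id := by
      apply (Pi.basisFun (ZMod 2) (Fin 8)).ext
      intro i
      rw [Pi.basisFun_apply, basis_vec, h2 i i.2]
      rfl
    ext v
    apply φ.e.injective
    rw [← hat_apply, h3]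
    rfl
  trans := by
    intro w hw
    obtain ⟨f, hf, h1⟩ := hH.trans (enc_lt w) (fun h => hw (enc_eq_zero.1 h))
    refine ⟨f, hf, fun c hc v hv => ?_⟩
    rw [mem_S, enc_transv, ← hat_apply]
    exact h1 _ (enc_lt c) (fun h => hc (enc_eq_zero.1 h)) _ hv

/-- **`H ≃* Sp(6, 2)`** -/
theorem Hyp.nonempty_sp (hH : Hyp φ H) :
    Nonempty (H ≃* Matrix.symplecticGroup (Fin 3) (ZMod 2)) := hH.fam.nonempty_equiv

/-! ### from the enumeration -/

theorem apc_lt : ∀ {L : List ℕ}, (∀ x ∈ L, x < 256) → ∀ n, apc L n < 256 := by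
  intro L
  induction L with
  | nil => intro _ n; show 0 < 256; norm_num
  | cons a L ih =>
    intro hL n
    show Nat.xor (cond (Nat.testBit n 0) a 0) (apc L (n / 2)) < 256
    apply xor_lt
    · cases Nat.testBit n 0
      · show 0 < 256; norm_num
      · exact hL a List.mem_cons_self
    · exact ih (fun x hx => hL x (List.mem_cons_of_mem _ hx)) _

theorem mem_six_cl (u v : ℕ) : 256 * u + v ∈ six (cl u v).1 (cl u v).2 := by
  have e1 : Nat.xor u (Nat.xor u v) = v := xor_xor_self_left u v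
  have e2 : Nat.xor v (Nat.xor u v) = u := by rw [xor_comm' u v]; exact xor_xor_self_left v u
  have e3 : Nat.xor (Nat.xor u v) u = v := by rw [xor_comm' _ u]; exact e1
  have e4 : Nat.xor (Nat.xor u v) v = u := by rw [xor_comm' _ v]; exact e2
  unfold cl six
  simp only
  split_ifs <;> simp [e1, e2, e3, e4]

theorem adj_iff {M : List ℕ → Prop} {U : ℕ → ℕ → Prop} (hU : USet M U)
    (hUU : ∀ u v, U u v ↔ cl u v ∈ lines T45 ∨ cl u v ∈ lines TA4) {u v : ℕ} (hu : u < 256)
    (hv : v < 256) : adj u v = true ↔ U u v := by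
  unfold adj
  rw [← RM_eq]
  constructor
  · intro h1
    have h2 := testBit_maskOf _ _ h1
    rw [List.mem_flatMap] at h2
    obtain ⟨e, he, h3⟩ := h2
    have h4 : U e.1 e.2.1 := by
      rcases List.mem_append.1 he with he | he
      · exact (hU.T45 e he).2 trivial
      · exact (hU.TA4 e he).2 ((hUU 1 4).2 (Or.inr (by decide +kernel)))
    obtain ⟨k1, k2, k3, k4, k5⟩ := hU.all6 h4
    obtain ⟨l1, l2, -⟩ := hU.line h4
    obtain ⟨-, l3, -⟩ := hU.line k2
    generalize e.1 = a at *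
    generalize e.2.1 = b at *
    have key : ∀ x y : ℕ, x < 256 → y < 256 → 256 * u + v = 256 * x + y → u = x ∧ v = y := by
      intro x y hx hy hxy
      omega
    unfold six at h3
    simp only [List.mem_cons, List.not_mem_nil, or_false] at h3
    rcases h3 with h3 | h3 | h3 | h3 | h3 | h3
    · obtain ⟨rfl, rfl⟩ := key _ _ l1 l2 h3; exact h4
    · obtain ⟨rfl, rfl⟩ := key _ _ l2 l1 h3; exact k1
    · obtain ⟨rfl, rfl⟩ := key _ _ l1 l3 h3; exact k2
    · obtain ⟨rfl, rfl⟩ := key _ _ l3 l1 h3; exact k3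
    · obtain ⟨rfl, rfl⟩ := key _ _ l2 l3 h3; exact k4
    · obtain ⟨rfl, rfl⟩ := key _ _ l3 l2 h3; exact k5
  · intro h1
    apply mem_maskOf
    rw [List.mem_flatMap]
    have h2 : ∃ e ∈ T45.flatten ++ TA4.flatten, e.1 = (cl u v).1 ∧ e.2.1 = (cl u v).2 := by
      rcases (hUU u v).1 h1 with h3 | h3
      · obtain ⟨e, he, h4⟩ := mem_lines.1 h3
        exact ⟨e, List.mem_append_left _ he, h4⟩
      · obtain ⟨e, he, h4⟩ := mem_lines.1 h3
        exact ⟨e, List.mem_append_right _ he, h4⟩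
    obtain ⟨e, he, h3, h4⟩ := h2
    exact ⟨e, he, by rw [h3, h4]; exact mem_six_cl u v⟩

/-- the hypotheses from the enumeration `UEnum.enum_codes`, second alternative -/
theorem Hyp.of_uset {M : List ℕ → Prop} {U : ℕ → ℕ → Prop} (hM : ∀ f ∈ H, ∃ L, M L ∧ Acts φ L f)
    (hM' : ∀ L, M L → L.length = 8 ∧ (∀ x ∈ L, x < 256) ∧ ∃ f ∈ H, Acts φ L f) (hU : USet M U)
    (hUU : ∀ u v, U u v ↔ cl u v ∈ lines T45 ∨ cl u v ∈ lines TA4) : Hyp φ H where
  act := by
    intro f hf u v u' v' hu hv hu' hv' h1 h2 h3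
    obtain ⟨L, hL, hA⟩ := hM f hf
    obtain ⟨hL8, hL2, -⟩ := hM' L hL
    rw [hat_acts hA, lin_vec' hL8] at h1 h2
    have e1 := vec_inj _ (apc_lt hL2 u) _ hu' h1
    have e2 := vec_inj _ (apc_lt hL2 v) _ hv' h2
    rw [adj_iff hU hUU hu' hv', ← e1, ← e2]
    exact hU.act hL ((adj_iff hU hUU hu hv).1 h3)
  sieg := by
    intro u v hu hv h1
    exact (hM' _ (hU.sieg ((adj_iff hU hUU hu hv).1 h1))).2.2
  symm := by
    intro u v hu hv h1
    exact (adj_iff hU hUU hv hu).2 (hU.symm ((adj_iff hU hUU hu hv).1 h1))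

end Main

end Cfsg.Agent.LargeExtra.Nine.SpSix
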