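import Cfsg.Agent.LargeExtra.Nine.ToCent
import Cfsg.Agent.LargeExtra.KillNine.Cert
import Cfsg.Agent.Lib.AltCarmichael

/-!
# S1763, configuration `confTh`: `C_G(z) / Q ≃ A₉` (helper360)

Seven Carmichael generators (3-cycles) of the group generated by the seven printed matrices.
-/

set_option autoImplicit false

namespace Cfsg.Agent.LargeExtra.Nine.ThCase

open Cfsg.Agent.Co2Type.Quad Cfsg.Agent.LargeExtra.Local Cfsg.Agent.LargeExtra.Base
open Cfsg.Agent.LargeExtra.KillNine.Codes Cfsg.Agent.LargeExtra.Nine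
open Cfsg.Agent.Lib.AltCarmichael

/-- the printed generators -/
def genL : List (List ℕ) := confTh.X ++ confTh.N ++ confTh.M

/-- seven 3-cycles -/
def VL : List (List ℕ) :=
  [[9, 12, 15, 1, 204, 104, 33, 243], [3, 1, 11, 13, 236, 120, 193, 67],
    [2, 3, 12, 4, 48, 16, 128, 192], [8, 15, 3, 9, 240, 64, 96, 48],
    [11, 13, 8, 12, 44, 56, 225, 115], [10, 14, 7, 5, 208, 80, 160, 176],
    [65, 192, 60, 32, 12, 40, 1, 195]]

/-- the 3-cycles as words in the printed generators -/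
def wV : List (List ℕ) :=
  [[5, 1, 6, 5, 1, 6], [4, 6, 5, 6, 4, 6, 5, 6], [5, 6, 4, 6, 5, 6, 4, 1], [0, 6, 5, 1, 6, 5, 0, 1],
    [3, 0, 5, 6, 5, 6, 5, 0], [6, 5, 6, 4, 1, 5, 6, 4], [0, 4, 6, 2, 5, 2, 6, 4, 1]]

/-- the printed generators as words in the 3-cycles -/
def wG : List (List ℕ) :=
  [[0, 2, 3, 4, 4, 3, 5, 5, 0, 1, 1], [0, 1, 3, 5, 5, 3, 4, 4, 0, 2, 2], [0, 1, 2, 0, 0, 3, 3, 1, 4, 5],
    [0, 1, 2, 5, 1, 1, 4, 6, 2, 2, 3, 0, 0], [0, 1, 2, 0, 0, 3, 4, 5, 5, 4, 6, 3, 3],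
    [0, 0, 1, 2, 2, 1, 3, 4, 4, 3, 5, 6, 6, 5], [0, 2, 3, 5, 5, 3, 4, 4, 0, 1, 1]]

theorem chkV : ∀ i < 7, prodL ((wV.getD i []).map fun j => genL.getD j idL) = VL.getD i idL := by
  decide +kernel

theorem lenG : genL.length = 7 := by decide

theorem ltV : ∀ i < 7, ∀ j ∈ wV.getD i [], j < 7 := by decide

theorem ltG : ∀ i < 7, ∀ j ∈ wG.getD i [], j < 7 := by decide

theorem chkG : ∀ i < 7, prodL ((wG.getD i []).map fun j => VL.getD j idL) = genL.getD i idL := by
  decide +kernel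

theorem chkCube : ∀ i < 7, mulL (VL.getD i idL) (mulL (VL.getD i idL) (VL.getD i idL)) = idL := by
  decide +kernel

theorem chkSq : ∀ i < 7, ∀ j < 7, i ≠ j →
    mulL (mulL (VL.getD j idL) (VL.getD i idL)) (mulL (VL.getD j idL) (VL.getD i idL)) = idL := by
  decide +kernel

section

variable {G : Type*} [Group G] {Q A : Subgroup G} {z a : G}

theorem mem_genL {L : List ℕ} (hL : L ∈ genL) : ∃ i < 7, genL.getD i idL = L := by
  obtain ⟨i, hi, rfl⟩ := List.mem_iff_getElem.1 hL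
  exact ⟨i, by rw [← lenG]; exact hi, by rw [List.getD_eq_getElem _ _ hi]⟩

theorem getD_mem {i : ℕ} (hi : i < 7) : genL.getD i idL ∈ genL := by
  rw [List.getD_eq_getElem _ _ (by rw [lenG]; exact hi)]
  exact List.getElem_mem _

/-- `C_G(z) / Q`, as the group `H` of linear maps, is `A₉`. -/
theorem nonempty_H (p : Pair Q z A a) (φ : Coord p.lz) (hc : IsConf p φ confTh) :
    Nonempty (↥p.H ≃* alternatingGroup (Fin 9)) := by
  classical
  have hgen : ∀ i < 7, In φ p.H (genL.getD i idL) := by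
    intro i hi
    have h1 := getD_mem hi
    rw [genL, List.mem_append, List.mem_append] at h1
    rcases h1 with (h1 | h1) | h1
    · obtain ⟨f, hf, hf'⟩ := hc.X _ h1
      exact ⟨f, p.X_le_H hf, hf'⟩
    · exact hc.N _ h1
    · exact absurd h1 (by simp [confTh])
  have hV : ∀ i < 7, In φ p.H (VL.getD i idL) := by
    intro i hi
    rw [← chkV i hi]
    apply In.prod
    intro L hL
    obtain ⟨j, hj, rfl⟩ := List.mem_map.1 hL
    exact hgen j (ltV i hi j hj)
  choose! v hvH hv using hV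
  have hrel : Rel 7 v := by
    constructor
    · intro i hi
      refine Acts.ext (φ := φ) (L := idL) ?_ Acts.one
      rw [← chkCube i hi, pow_succ, pow_succ, pow_one]
      exact Acts.mul (hv i hi) (Acts.mul (hv i hi) (hv i hi))
    · intro i hi j hj hij
      refine Acts.ext (φ := φ) (L := idL) ?_ Acts.one
      rw [← chkSq i hi j hj hij, pow_two]
      exact Acts.mul (Acts.mul (hv j hj) (hv i hi)) (Acts.mul (hv j hj) (hv i hi))
  have heq : gen 7 v = p.H := by
    apply le_antisymm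
    · rw [gen_def, Subgroup.closure_le]
      rintro f ⟨i, hi, rfl⟩
      exact hvH i hi
    · refine hc.le.trans ?_
      rw [Subgroup.closure_le]
      rintro f ⟨L, hL, hf⟩
      obtain ⟨i, hi, rfl⟩ := mem_genL hL
      have h1 : In φ (gen 7 v) (genL.getD i idL) := by
        rw [← chkG i hi]
        apply In.prod
        intro L hL
        obtain ⟨j, hj, rfl⟩ := List.mem_map.1 hL
        exact ⟨v j, mem_gen (ltG i hi j hj), hv j (ltG i hi j hj)⟩
      obtain ⟨g, hg, hg'⟩ := h1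
      rw [Acts.ext hf hg']
      exact hg
  have hne : ∃ i < 7, v i ≠ 1 := by
    refine ⟨0, by norm_num, fun h0 => ?_⟩
    have h1 := hv 0 (by norm_num) (φ.e.symm (vec 1))
    rw [h0, φ.e.apply_symm_apply, lin_vec] at h1
    have h2 : vec 1 = vec (ap (VL.getD 0 idL) 1) := by
      rw [← h1]
      exact (φ.e.apply_symm_apply (vec 1)).symm
    have h3 : ap (VL.getD 0 idL) 1 = 9 := by decide
    rw [h3] at h2
    exact absurd (vec_inj 1 (by norm_num) 9 (by norm_num) h2) (by norm_num)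
  obtain ⟨e⟩ := nonempty_gen_equiv (by norm_num) hrel hne
  exact ⟨(MulEquiv.subgroupCongr heq.symm).trans e⟩

end

end Cfsg.Agent.LargeExtra.Nine.ThCase
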