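import Cfsg.Agent.LargeExtra.Nine.ThCase
import Cfsg.Agent.S1671

/-!
# S1763, configuration `confTh`: `G` is the Thompson group (helper360)
-/

set_option autoImplicit false

namespace Cfsg.Agent.LargeExtra.Nine.ThFinal

open Cfsg.Agent.Co2Type.Quad Cfsg.Agent.LargeExtra.Local Cfsg.Agent.LargeExtra.Base
open Cfsg.Agent.LargeExtra.Nine

variable {G : Type*} [Group G] {Q A : Subgroup G} {z a : G}

/-- The configuration `confTh` gives the Thompson group. -/
theorem recognize [Finite G] [IsSimpleGroup G] (p : Pair Q z A a) (h9 : Nat.card Q = 2 ^ 9)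
    (φ : Coord p.lz) (hc : IsConf p φ confTh) : Cfsg.Spor.IsoTh G := by
  classical
  have hN := ToCent.normal p.lz
  obtain ⟨e₁⟩ := ToCent.nonempty_quot p.lz
  obtain ⟨e₂⟩ := ThCase.nonempty_H p φ hc
  obtain ⟨E, hE, hE'⟩ := ToCent.exists_elem p
  refine Cfsg.Agent.S1671.result z (orderOf_z p.lz)
    (Q.subgroupOf (Subgroup.centralizer ({z} : Set G)))
    (ToCent.isExtraspecial p.lz (by rw [h9]; norm_num)) ?_ ⟨E, hE, ?_⟩
    (ToCent.centralizer_le p.lz) (e₁.trans e₂)
  · rw [ToCent.card_subgroupOf p.lz, h9]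
  · rw [hE', Cfsg.Agent.LargeExtra.KillNine.Cert.card_D_of_conf p φ hc.D]
    norm_num

end Cfsg.Agent.LargeExtra.Nine.ThFinal
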