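import Cfsg.Agent.LargeExtra.Nine.UFrame
import Cfsg.Agent.LargeExtra.Nine.UEnum

/-!
# S1763 case I: from `UInput` to codes (helper71), part 1: codes and matrices
-/

set_option autoImplicit false

namespace Cfsg.Agent.LargeExtra.Nine.UBridge

open Cfsg.Agent.Co2Type.Quad Cfsg.Agent.LargeExtra.Nine Cfsg.Agent.LargeExtra.Nine.UTree
  Cfsg.Agent.LargeExtra.Nine.UCode Cfsg.Agent.LargeExtra.Nine.UEnum Cfsg.Agent.LargeExtra.Nine.UFrame
  Cfsg.Agent.LargeExtra.Nine.Frame
open Cfsg.Agent.LargeExtra.KillNine.Codes (ap lin_vec vec_xor vec_zero vec_inj exists_code basis_vec)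

/-! ### codes -/

theorem cond_eq_ite' (c : Bool) (a : Nat) : cond c a 0 = if c then a else 0 := by
  cases c <;> rfl

theorem apc_eq_ap {L : List Nat} (hL : L.length = 8) (n : Nat) : apc L n = ap L n := by
  match L, hL with
  | [a0, a1, a2, a3, a4, a5, a6, a7], _ =>
    have e : ∀ (k : Nat) (m : Nat), Nat.testBit (m / 2) k = Nat.testBit m (k + 1) := fun k m =>
      (Nat.testBit_succ m k).symm
    simp only [apc, e, cond_eq_ite', zero_add, Nat.reduceAdd]
    show (if Nat.testBit n 0 = true then a0 else 0) ^^^ ((if Nat.testBit n 1 = true then a1 else 0) ^^^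
      ((if Nat.testBit n 2 = true then a2 else 0) ^^^ ((if Nat.testBit n 3 = true then a3 else 0) ^^^
      ((if Nat.testBit n 4 = true then a4 else 0) ^^^ ((if Nat.testBit n 5 = true then a5 else 0) ^^^
      ((if Nat.testBit n 6 = true then a6 else 0) ^^^ ((if Nat.testBit n 7 = true then a7 else 0) ^^^ 0)))))))
      = _
    simp only [ap, List.getD_cons_zero, List.getD_cons_succ, Nat.xor_zero, Nat.xor_assoc]

theorem lin_vec' {L : List Nat} (hL : L.length = 8) (n : Nat) : lin L (vec n) = vec (apc L n) := by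
  rw [apc_eq_ap hL, lin_vec]

theorem xor_lt {a b : Nat} (ha : a < 256) (hb : b < 256) : Nat.xor a b < 256 :=
  Nat.xor_lt_two_pow (n := 8) ha hb

theorem apc_lt {L : List Nat} (hL : ∀ x ∈ L, x < 256) (n : Nat) : apc L n < 256 := by
  induction L generalizing n with
  | nil => show (0 : Nat) < 256; norm_num
  | cons a L ih =>
    show Nat.xor _ _ < 256
    refine xor_lt ?_ (ih (fun x hx => hL x (List.mem_cons_of_mem _ hx)) _)
    have ha := hL a List.mem_cons_self
    cases Nat.testBit n 0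
    · show (0 : Nat) < 256; norm_num
    · exact ha

theorem qs_vec : ∀ n < 256, qs (vec n) = if qc n then 1 else 0 := by
  decide +kernel

variable {G : Type*} [Group G] {Q : Subgroup G} {z : G} {h : Large Q z}

/-- the vector with code `n` -/
noncomputable def sv (φ : Coord h) (n : Nat) : h.V := φ.e.symm (vec n)

theorem e_sv (φ : Coord h) (n : Nat) : φ.e (sv φ n) = vec n := φ.e.apply_symm_apply _

theorem sv_xor (φ : Coord h) (m n : Nat) : sv φ (Nat.xor m n) = sv φ m + sv φ n := by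
  show φ.e.symm (vec (m ^^^ n)) = _
  rw [vec_xor, map_add]; rfl

theorem sv_zero (φ : Coord h) : sv φ 0 = 0 := by
  show φ.e.symm (vec 0) = 0
  rw [vec_zero, map_zero]

theorem sv_inj (φ : Coord h) {m n : Nat} (hm : m < 256) (hn : n < 256) (he : sv φ m = sv φ n) :
    m = n :=
  vec_inj m hm n hn (φ.e.symm.injective he)

theorem exists_sv (φ : Coord h) (x : h.V) : ∃ n < 256, x = sv φ n := by
  obtain ⟨n, hn, he⟩ := exists_code (φ.e x)
  exact ⟨n, hn, by rw [sv, ← he, LinearEquiv.symm_apply_apply]⟩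

theorem q_sv (φ : Coord h) {n : Nat} (hn : n < 256) : h.q (sv φ n) = if qc n then 1 else 0 := by
  rw [φ.q, e_sv, qs_vec n hn]

theorem b_sv (φ : Coord h) {m n : Nat} (hm : m < 256) (hn : n < 256) :
    h.b (sv φ m) (sv φ n) = if bc m n then 1 else 0 := by
  rw [b_eq h, ← sv_xor, q_sv φ (xor_lt hm hn), q_sv φ hm, q_sv φ hn, bc]
  cases qc (Nat.xor m n) <;> cases qc m <;> cases qc n <;> decide

theorem ite_smul_sv (φ : Coord h) (c : Bool) (n : Nat) :
    (if c then (1 : ZMod 2) else 0) • sv φ n = sv φ (cond c n 0) := by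
  cases c
  · show (0 : ZMod 2) • sv φ n = sv φ 0
    rw [zero_smul, sv_zero]
  · show (1 : ZMod 2) • sv φ n = sv φ n
    rw [one_smul]

/-! ### matrices -/

theorem acts_sv {φ : Coord h} {L : List Nat} (hL : L.length = 8) {f : h.V ≃ₗ[ZMod 2] h.V}
    (ha : Acts φ L f) (n : Nat) : f (sv φ n) = sv φ (apc L n) := by
  apply φ.e.injective
  rw [ha, e_sv, e_sv, lin_vec' hL]

/-- a linear map given on the basis -/
theorem acts_of_basis {φ : Coord h} {L : List Nat} {f : h.V ≃ₗ[ZMod 2] h.V}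
    (hf : ∀ i : Fin 8, f (sv φ (2 ^ (i : ℕ))) = sv φ (L.getD i 0)) : Acts φ L f := by
  intro v
  have h1 : (φ.e.toLinearMap ∘ₗ f.toLinearMap ∘ₗ φ.e.symm.toLinearMap) = lin L := by
    apply LinearMap.pi_ext
    intro i x
    have hx : x = 0 ∨ x = 1 := two x
    rcases hx with rfl | rfl
    · rw [Pi.single_zero, map_zero, map_zero]
    · rw [basis_vec]
      show φ.e (f (sv φ (2 ^ (i : ℕ)))) = ∑ j : Fin 8, vec (2 ^ (i : ℕ)) j • vec (L.getD j 0)
      rw [hf i, e_sv, ← basis_vec, Finset.sum_eq_single i]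
      · rw [Pi.single_eq_same, one_smul]
      · intro j _ hj
        rw [Pi.single_eq_of_ne hj, zero_smul]
      · intro hi; exact absurd (Finset.mem_univ i) hi
  have h2 := LinearMap.congr_fun h1 (φ.e v)
  show φ.e (f v) = lin L (φ.e v)
  rw [← h2]
  show φ.e (f v) = φ.e (f (φ.e.symm (φ.e v)))
  rw [LinearEquiv.symm_apply_apply]

/-- the good lists -/
def Good8 (L : List Nat) : Prop := L.length = 8 ∧ ∀ x ∈ L, x < 256

theorem exists_list (φ : Coord h) (f : h.V ≃ₗ[ZMod 2] h.V) : ∃ L, Good8 L ∧ Acts φ L f := by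
  have h1 : ∀ i : Fin 8, ∃ n < 256, f (sv φ (2 ^ (i : ℕ))) = sv φ n := fun i => exists_sv φ _
  choose g hg hg' using h1
  refine ⟨List.ofFn g, ⟨List.length_ofFn, ?_⟩, acts_of_basis fun i => ?_⟩
  · intro x hx
    rw [List.mem_ofFn] at hx
    obtain ⟨i, rfl⟩ := hx
    exact hg i
  · rw [hg' i]
    congr 1
    rw [List.getD_eq_getElem _ _ (by rw [List.length_ofFn]; exact i.2), List.getElem_ofFn]

theorem list_ext {φ : Coord h} {L K : List Nat} (hL : Good8 L) (hK : Good8 K)
    {f : h.V ≃ₗ[ZMod 2] h.V} (h1 : Acts φ L f) (h2 : Acts φ K f) : L = K := by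
  have key : ∀ i < 8, L.getD i 0 = K.getD i 0 := by
    intro i hi
    have e1 := acts_sv hL.1 h1 (2 ^ i)
    have e2 := acts_sv hK.1 h2 (2 ^ i)
    have e3 := sv_inj φ (apc_lt hL.2 _) (apc_lt hK.2 _) (e1.symm.trans e2)
    have e4 : ∀ {N : List Nat}, N.length = 8 → ∀ i < 8, apc N (2 ^ i) = N.getD i 0 := by
      intro N hN i hi
      match N, hN with
      | [a0, a1, a2, a3, a4, a5, a6, a7], _ =>
        have hx : ∀ a : Nat, Nat.xor a 0 = a := fun a => Nat.xor_zero a
        have hx' : ∀ a : Nat, Nat.xor 0 a = a := fun a => Nat.zero_xor a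
        have hz : ∀ a b : Nat, cond false a b = b := fun _ _ => rfl
        have ho : ∀ a b : Nat, cond true a b = a := fun _ _ => rfl
        interval_cases i <;> simp [apc, hx, hx', Nat.testBit]
    rw [e4 hL.1 i hi, e4 hK.1 i hi] at e3
    exact e3
  apply List.ext_getElem (hL.1.trans hK.1.symm)
  intro i h1 h2
  have := key i (by rw [← hL.1]; exact h1)
  rwa [List.getD_eq_getElem _ _ h1, List.getD_eq_getElem _ _ h2] at this

theorem good_comp {L K : List Nat} (hL : Good8 L) (hK : Good8 K) : Good8 (comp L K) := by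
  refine ⟨by rw [comp, List.length_map, hK.1], ?_⟩
  intro x hx
  rw [comp, List.mem_map] at hx
  obtain ⟨y, -, rfl⟩ := hx
  exact apc_lt hL.2 _

theorem acts_comp {φ : Coord h} {L K : List Nat} (hL : Good8 L) (hK : Good8 K)
    {f g : h.V ≃ₗ[ZMod 2] h.V} (h1 : Acts φ L f) (h2 : Acts φ K g) : Acts φ (comp L K) (f * g) := by
  apply acts_of_basis
  intro i
  show f (g (sv φ (2 ^ (i : ℕ)))) = _
  rw [acts_sv hK.1 h2, acts_sv hL.1 h1]
  congr 1
  have e4 : apc K (2 ^ (i : ℕ)) = K.getD i 0 := by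
    have := hK.1
    match K, this with
    | [a0, a1, a2, a3, a4, a5, a6, a7], _ =>
      have hx : ∀ a : Nat, Nat.xor a 0 = a := fun a => Nat.xor_zero a
      have hx' : ∀ a : Nat, Nat.xor 0 a = a := fun a => Nat.zero_xor a
      fin_cases i <;> simp [apc, hx, hx', Nat.testBit]
  rw [e4, comp, List.getD_eq_getElem _ _ (by rw [hK.1]; exact i.2),
    List.getD_eq_getElem _ _ (by rw [List.length_map, hK.1]; exact i.2), List.getElem_map]

end Cfsg.Agent.LargeExtra.Nine.UBridge
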