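import Cfsg.Agent.LargeExtra.Nine.UBridge

/-!
# S1763 case I: from `UInput` to codes (helper71), part 2: the instance of `USet`
-/

set_option autoImplicit false

namespace Cfsg.Agent.LargeExtra.Nine.UBridge

open Cfsg.Agent.Co2Type.Quad Cfsg.Agent.LargeExtra.Nine Cfsg.Agent.LargeExtra.Nine.UTree
  Cfsg.Agent.LargeExtra.Nine.UCode Cfsg.Agent.LargeExtra.Nine.UEnum Cfsg.Agent.LargeExtra.Nine.UFrame
  Cfsg.Agent.LargeExtra.Nine.Frame

/-! ### the finite check for the elements of `X_W` -/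

/-- `ρ` on codes -/
def rhoc (n : Nat) : Nat :=
  Nat.xor (Nat.xor (cond (Nat.testBit n 2) 8 0) (cond (Nat.testBit n 3) 12 0))
    (Nat.xor (cond (Nat.testBit n 6) 192 0) (cond (Nat.testBit n 7) 64 0))

/-- the element of `X_W` belonging to `n ∈ T` on the perp -/
def gx (n r : Nat) : Nat :=
  Nat.xor r (Nat.xor (cond (bc n r) 1 0) (cond (bc (rhoc n) r) 2 0))

/-- the six basis codes of `W^⊥` -/
def six : List Nat := [1, 2, 4, 8, 64, 128]

/-- conditions on the image `a` of `16` -/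
def condA (n a : Nat) : Bool := !(qc a) && six.all fun r => bc a (gx n r) == bc 16 r
/-- conditions on the image `c` of `32` -/
def condC (n a c : Nat) : Bool := !(qc c) && (!(bc a c) && six.all fun r => bc c (gx n r) == bc 32 r)

def mk (n a c : Nat) : List Nat :=
  [gx n 1, gx n 2, gx n 4, gx n 8, a, c, gx n 64, gx n 128]

/-- codes of `T` -/
def Tn : List Nat := [0, 4, 8, 12, 64, 68, 72, 76, 128, 132, 136, 140, 192, 196, 200, 204]

theorem check_XW : (Tn.all fun n => (List.range 256).all fun a => !(condA n a) ||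
    (List.range 256).all fun c => !(condC n a c) || XW.any fun y => y == mk n a c) = true := by
  decide +kernel

theorem check_gen : ([(4, 2), (8, 3), (64, 4), (128, 5)].all fun p : Nat × Nat =>
    (List.range 256).all fun a => !(condA p.1 a) ||
    (List.range 256).all fun c => !(condC p.1 a c) ||
      ((genN.getD p.2 []) == mk p.1 a c || (genN.getD p.2 []) == comp (mk p.1 a c) (sgc 1 2))) = true := by
  decide +kernel

theorem mem_XW {n a c : Nat} (hn : n ∈ Tn) (ha : a < 256) (hc : c < 256) (h1 : condA n a = true)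
    (h2 : condC n a c = true) : ∃ y ∈ XW, y = mk n a c := by
  have h3 := check_XW
  simp only [List.all_eq_true, List.mem_range, Bool.or_eq_true, Bool.not_eq_true',
    List.any_eq_true, beq_iff_eq] at h3
  rcases h3 n hn a ha with h4 | h4
  · rw [h1] at h4; exact absurd h4 (by decide)
  · rcases h4 c hc with h5 | h5
    · rw [h2] at h5; exact absurd h5 (by decide)
    · exact h5

theorem gen_cases {n i a c : Nat} (hn : (n, i) ∈ [(4, 2), (8, 3), (64, 4), (128, 5)]) (ha : a < 256)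
    (hc : c < 256) (h1 : condA n a = true) (h2 : condC n a c = true) :
    genN.getD i [] = mk n a c ∨ genN.getD i [] = comp (mk n a c) (sgc 1 2) := by
  have h3 := check_gen
  simp only [List.all_eq_true, List.mem_range, Bool.or_eq_true, Bool.not_eq_true',
    beq_iff_eq] at h3
  rcases h3 (n, i) hn a ha with h4 | h4
  · rw [h1] at h4; exact absurd h4 (by decide)
  · rcases h4 c hc with h5 | h5
    · rw [h2] at h5; exact absurd h5 (by decide)
    · exact h5

variable {G : Type*} [Group G] {Q : Subgroup G} {z : G} {h : Large Q z}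

theorem boolB {c d : Bool} (he : (if c then (1 : ZMod 2) else 0) = if d then 1 else 0) : c = d := by
  cases c <;> cases d <;> first | rfl | exact absurd he (by decide)

theorem b_sv_eq (φ : Coord h) {m n m' n' : Nat} (hm : m < 256) (hn : n < 256) (hm' : m' < 256)
    (hn' : n' < 256) (he : h.b (sv φ m) (sv φ n) = h.b (sv φ m') (sv φ n')) : bc m n = bc m' n' := by
  rw [b_sv φ hm hn, b_sv φ hm' hn'] at he
  exact boolB he

theorem q_sv_zero (φ : Coord h) {n : Nat} (hn : n < 256) : h.q (sv φ n) = 0 ↔ qc n = false := by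
  rw [q_sv φ hn]
  cases qc n <;> decide

theorem b_sv_zero (φ : Coord h) {m n : Nat} (hm : m < 256) (hn : n < 256) :
    h.b (sv φ m) (sv φ n) = 0 ↔ bc m n = false := by
  rw [b_sv φ hm hn]
  cases bc m n <;> decide

theorem gx_lt {n r : Nat} (hr : r < 256) : gx n r < 256 := by
  refine xor_lt hr (xor_lt ?_ ?_)
  · cases bc n r <;> (show (_ : Nat) < 256; first | exact (by norm_num : (0 : Nat) < 256) | exact (by norm_num : (1 : Nat) < 256))
  · cases bc (rhoc n) r <;> (show (_ : Nat) < 256; first | exact (by norm_num : (0 : Nat) < 256) | exact (by norm_num : (2 : Nat) < 256))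

/-- data of the frame in codes -/
structure Fr (φ : Coord h) (ρ : h.V →ₗ[ZMod 2] h.V) : Prop where
  opp : Opp h (sv φ 1) (sv φ 2) (sv φ 16) (sv φ 32)
  rho : Rho h (sv φ 1) (sv φ 2) ρ
  r4 : rt h (sv φ 1) (sv φ 2) (sv φ 16) (sv φ 32) ρ (sv φ 4) = sv φ 8
  r8 : rt h (sv φ 1) (sv φ 2) (sv φ 16) (sv φ 32) ρ (sv φ 8) = sv φ 12
  r64 : rt h (sv φ 1) (sv φ 2) (sv φ 16) (sv φ 32) ρ (sv φ 64) = sv φ 192
  r128 : rt h (sv φ 1) (sv φ 2) (sv φ 16) (sv φ 32) ρ (sv φ 128) = sv φ 64

theorem inT_sv (φ : Coord h) : ∀ n ∈ Tn, InT h (sv φ 1) (sv φ 2) (sv φ 16) (sv φ 32) (sv φ n) := by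
  intro n hn
  have hlt : n < 256 := by
    have : ∀ n ∈ Tn, n < 256 := by decide
    exact this n hn
  have hb : ∀ n ∈ Tn, bc n 1 = false ∧ bc n 2 = false ∧ bc n 16 = false ∧ bc n 32 = false := by
    decide +kernel
  obtain ⟨h1, h2, h3, h4⟩ := hb n hn
  exact ⟨(b_sv_zero φ hlt (by norm_num)).2 h1, (b_sv_zero φ hlt (by norm_num)).2 h2,
    (b_sv_zero φ hlt (by norm_num)).2 h3, (b_sv_zero φ hlt (by norm_num)).2 h4⟩

theorem mem_Tn_of_inT (φ : Coord h) {n : Nat} (hn : n < 256)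
    (hT : InT h (sv φ 1) (sv φ 2) (sv φ 16) (sv φ 32) (sv φ n)) : n ∈ Tn := by
  have h1 := (b_sv_zero φ hn (by norm_num)).1 hT.bu
  have h2 := (b_sv_zero φ hn (by norm_num)).1 hT.bv
  have h3 := (b_sv_zero φ hn (by norm_num)).1 hT.bu'
  have h4 := (b_sv_zero φ hn (by norm_num)).1 hT.bv'
  have hall : ((List.range 256).all fun n =>
      bc n 1 || (bc n 2 || (bc n 16 || (bc n 32 || decide (n ∈ Tn))))) = true := by decide +kernel
  have h5 := List.all_eq_true.1 hall n (List.mem_range.2 hn)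
  rw [h1, h2, h3, h4, Bool.false_or, Bool.false_or, Bool.false_or, Bool.false_or] at h5
  exact of_decide_eq_true h5

theorem rt_sv {φ : Coord h} {ρ : h.V →ₗ[ZMod 2] h.V} (F : Fr φ ρ) : ∀ n ∈ Tn,
    rt h (sv φ 1) (sv φ 2) (sv φ 16) (sv φ 32) ρ (sv φ n) = sv φ (rhoc n) := by
  have i4 := inT_sv φ 4 (by decide)
  have i8 := inT_sv φ 8 (by decide)
  have i12 := inT_sv φ 12 (by decide)
  have i64 := inT_sv φ 64 (by decide)
  have i128 := inT_sv φ 128 (by decide)
  have i192 := inT_sv φ 192 (by decide)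
  have add : ∀ {m n : Nat}, InT h (sv φ 1) (sv φ 2) (sv φ 16) (sv φ 32) (sv φ m) →
      InT h (sv φ 1) (sv φ 2) (sv φ 16) (sv φ 32) (sv φ n) → ∀ {m' n' : Nat},
      rt h (sv φ 1) (sv φ 2) (sv φ 16) (sv φ 32) ρ (sv φ m) = sv φ m' →
      rt h (sv φ 1) (sv φ 2) (sv φ 16) (sv φ 32) ρ (sv φ n) = sv φ n' →
      rt h (sv φ 1) (sv φ 2) (sv φ 16) (sv φ 32) ρ (sv φ (Nat.xor m n)) = sv φ (Nat.xor m' n') := by
    intro m n hm hn m' n' h1 h2
    rw [sv_xor, rt_add F.opp F.rho hm hn, h1, h2, sv_xor]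
  have r12 := add i4 i8 F.r4 F.r8
  have r192 := add i64 i128 F.r64 F.r128
  have r0 := add i4 i4 F.r4 F.r4
  intro n hn
  simp only [Tn, List.mem_cons, List.not_mem_nil, or_false] at hn
  rcases hn with rfl | rfl | rfl | rfl | rfl | rfl | rfl | rfl | rfl | rfl | rfl | rfl | rfl | rfl |
    rfl | rfl
  · exact r0
  · exact F.r4
  · exact F.r8
  · exact r12
  · exact F.r64
  · exact add i4 i64 F.r4 F.r64
  · exact add i8 i64 F.r8 F.r64
  · exact add i12 i64 r12 F.r64
  · exact F.r128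
  · exact add i4 i128 F.r4 F.r128
  · exact add i8 i128 F.r8 F.r128
  · exact add i12 i128 r12 F.r128
  · exact r192
  · exact add i4 i192 F.r4 r192
  · exact add i8 i192 F.r8 r192
  · exact add i12 i192 r12 r192

/-- the form of an element of `X_W` on the perp -/
def Kform (h : Large Q z) (u v : h.V) (ρ : h.V →ₗ[ZMod 2] h.V) (f : h.V ≃ₗ[ZMod 2] h.V) (x : h.V) :
    Prop :=
  ∀ r, h.b u r = 0 → h.b v r = 0 → f r = r + h.b x r • u + h.b (ρ x) r • v

/-- WLOG `x ∈ T` -/
theorem Kform.toT {φ : Coord h} {ρ : h.V →ₗ[ZMod 2] h.V} (F : Fr φ ρ) {f : h.V ≃ₗ[ZMod 2] h.V}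
    {x : h.V} (h1 : h.b (sv φ 1) x = 0) (h2 : h.b (sv φ 2) x = 0)
    (hK : Kform h (sv φ 1) (sv φ 2) ρ f x) :
    ∃ n ∈ Tn, pi h (sv φ 1) (sv φ 2) (sv φ 16) (sv φ 32) x = sv φ n ∧
      ∀ r, h.b (sv φ 1) r = 0 → h.b (sv φ 2) r = 0 →
      f r = r + h.b (sv φ n) r • sv φ 1 + h.b (sv φ (rhoc n)) r • sv φ 2 := by
  have hT := pi_mem F.opp x
  obtain ⟨n, hn, hxn⟩ := exists_sv φ (pi h (sv φ 1) (sv φ 2) (sv φ 16) (sv φ 32) x)
  rw [hxn] at hT
  have hnT := mem_Tn_of_inT φ hn hT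
  refine ⟨n, hnT, hxn, fun r hr1 hr2 => ?_⟩
  rw [hK r hr1 hr2]
  have hspan : ∀ w ∈ Submodule.span (ZMod 2) ({sv φ 1, sv φ 2} : Set h.V), h.b w r = 0 := by
    intro w hw
    obtain ⟨c, d, rfl⟩ := mem_span_two hw
    rw [map_add, LinearMap.add_apply, map_smul, map_smul, LinearMap.smul_apply, LinearMap.smul_apply,
      hr1, hr2, smul_zero, smul_zero, add_zero]
  have hz : ∀ a b : ZMod 2, a + b = 0 → a = b := by decide
  have e1 : h.b x r = h.b (sv φ n) r := by
    apply hz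
    have := hspan _ (sub_pi_mem (u' := sv φ 16) (v' := sv φ 32) h1 h2)
    rwa [map_add, LinearMap.add_apply, hxn] at this
  have e2 : h.b (ρ x) r = h.b (sv φ (rhoc n)) r := by
    apply hz
    have s1 := F.rho.span _ (sub_pi_mem (u' := sv φ 16) (v' := sv φ 32) h1 h2)
    rw [hxn, map_add] at s1
    have s2 := rho_add_rt (u' := sv φ 16) (v' := sv φ 32) F.rho hT
    rw [rt_sv F n hnT] at s2
    have s3 := Submodule.add_mem _ s1 s2
    have e : ρ x + ρ (sv φ n) + (ρ (sv φ n) + sv φ (rhoc n)) = ρ x + sv φ (rhoc n) := by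
      rw [← add_assoc, add_assoc (ρ x), h.add_self, add_zero]
    rw [e] at s3
    have := hspan _ s3
    rwa [map_add, LinearMap.add_apply] at this
  rw [e1, e2]

/-- the code list of an element of `X_W` -/
theorem Kform.list {φ : Coord h} {f : h.V ≃ₗ[ZMod 2] h.V}
    (hiso : ∀ x, h.q (f x) = h.q x) {n : Nat} (hn : n ∈ Tn)
    (hK : ∀ r, h.b (sv φ 1) r = 0 → h.b (sv φ 2) r = 0 →
      f r = r + h.b (sv φ n) r • sv φ 1 + h.b (sv φ (rhoc n)) r • sv φ 2) :
    ∃ a < 256, ∃ c < 256, condA n a = true ∧ condC n a c = true ∧ Acts φ (mk n a c) f := by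
  have hnlt : n < 256 ∧ rhoc n < 256 := by
    have : ∀ n ∈ Tn, n < 256 ∧ rhoc n < 256 := by decide +kernel
    exact this n hn
  have hisob : ∀ x y, h.b (f x) (f y) = h.b x y := by
    intro x y
    rw [b_eq h (f x), ← map_add, hiso, hiso, hiso, b_eq h x]
  have hsix : ∀ r ∈ six, r < 256 ∧ f (sv φ r) = sv φ (gx n r) := by
    intro r hr
    have h6 : ∀ r ∈ six, r < 256 ∧ bc 1 r = false ∧ bc 2 r = false := by decide +kernel
    obtain ⟨h7, h8, h9⟩ := h6 r hr
    refine ⟨h7, ?_⟩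
    rw [hK _ ((b_sv_zero φ (by norm_num) h7).2 h8) ((b_sv_zero φ (by norm_num) h7).2 h9),
      b_sv φ hnlt.1 h7, b_sv φ hnlt.2 h7, ite_smul_sv, ite_smul_sv, gx, sv_xor, sv_xor, add_assoc]
  obtain ⟨a, ha, hfa⟩ := exists_sv φ (f (sv φ 16))
  obtain ⟨c, hc, hfc⟩ := exists_sv φ (f (sv φ 32))
  refine ⟨a, ha, c, hc, ?_, ?_, ?_⟩
  · rw [condA, Bool.and_eq_true, Bool.not_eq_true']
    constructor
    · rw [← q_sv_zero φ ha, ← hfa, hiso, q_sv_zero φ (by norm_num)]; decide
    · rw [List.all_eq_true]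
      intro r hr
      rw [beq_iff_eq]
      obtain ⟨h1, h2⟩ := hsix r hr
      exact b_sv_eq φ ha (gx_lt h1) (by norm_num) h1 (by rw [← hfa, ← h2, hisob])
  · rw [condC, Bool.and_eq_true, Bool.and_eq_true, Bool.not_eq_true', Bool.not_eq_true']
    refine ⟨?_, ?_, ?_⟩
    · rw [← q_sv_zero φ hc, ← hfc, hiso, q_sv_zero φ (by norm_num)]; decide
    · rw [← b_sv_zero φ ha hc, ← hfc, ← hfa, hisob, b_sv_zero φ (by norm_num) (by norm_num)]; decide
    · rw [List.all_eq_true]
      intro r hr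
      rw [beq_iff_eq]
      obtain ⟨h1, h2⟩ := hsix r hr
      exact b_sv_eq φ hc (gx_lt h1) (by norm_num) h1 (by rw [← hfc, ← h2, hisob])
  · apply acts_of_basis
    intro i
    fin_cases i
    · exact (hsix 1 (by decide)).2
    · exact (hsix 2 (by decide)).2
    · exact (hsix 4 (by decide)).2
    · exact (hsix 8 (by decide)).2
    · exact hfa
    · exact hfc
    · exact (hsix 64 (by decide)).2
    · exact (hsix 128 (by decide)).2

theorem good_mk {n a c : Nat} (ha : a < 256) (hc : c < 256) : Good8 (mk n a c) := by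
  refine ⟨rfl, ?_⟩
  intro x hx
  simp only [mk, List.mem_cons, List.not_mem_nil, or_false] at hx
  rcases hx with rfl | rfl | rfl | rfl | rfl | rfl | rfl | rfl
  · exact gx_lt (by norm_num)
  · exact gx_lt (by norm_num)
  · exact gx_lt (by norm_num)
  · exact gx_lt (by norm_num)
  · exact ha
  · exact hc
  · exact gx_lt (by norm_num)
  · exact gx_lt (by norm_num)

/-- the Siegel element of a U-line in codes -/
theorem acts_sgc {φ : Coord h} {f : h.V ≃ₗ[ZMod 2] h.V} {m n : Nat} (hm : m < 256) (hn : n < 256)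
    (hf : ∀ x, f x = x + h.b x (sv φ m) • sv φ n + h.b x (sv φ n) • sv φ m) : Acts φ (sgc m n) f := by
  apply acts_of_basis
  have key : ∀ x < 256, f (sv φ x) =
      sv φ (Nat.xor x (Nat.xor (cond (bc x m) n 0) (cond (bc x n) m 0))) := by
    intro x hx
    rw [hf, b_sv φ hx hm, b_sv φ hx hn, ite_smul_sv, ite_smul_sv, sv_xor, sv_xor, add_assoc]
  intro i
  fin_cases i
  · exact key 1 (by norm_num)
  · exact key 2 (by norm_num)
  · exact key 4 (by norm_num)
  · exact key 8 (by norm_num)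
  · exact key 16 (by norm_num)
  · exact key 32 (by norm_num)
  · exact key 64 (by norm_num)
  · exact key 128 (by norm_num)

theorem good_sgc {m n : Nat} (hm : m < 256) (hn : n < 256) : Good8 (sgc m n) := by
  refine ⟨rfl, ?_⟩
  intro x hx
  rw [sgc, List.mem_map] at hx
  obtain ⟨y, hy, rfl⟩ := hx
  have hy' : y < 256 := by
    have : ∀ y ∈ [1, 2, 4, 8, 16, 32, 64, 128], y < 256 := by decide
    exact this y hy
  refine xor_lt hy' (xor_lt ?_ ?_)
  · cases bc y m
    · exact (by norm_num : (0 : Nat) < 256)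
    · exact hn
  · cases bc y n
    · exact (by norm_num : (0 : Nat) < 256)
    · exact hm

end Cfsg.Agent.LargeExtra.Nine.UBridge
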