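import Mathlib
import Cfsg.Agent.LargeExtra.Nine.UTree

/-!
# S1763 case I: the enumeration of the lines of type U on codes (helper71)

Everything is about natural numbers `< 256` (codes of vectors of `F₂^8`) and lists of eight codes (matrices).
Main theorem `enum_codes`: the set of U-lines consists of the 45 lines of `N₀ = U₄(2)`, or of these and one of the
three orbits of 270 lines.
-/

set_option autoImplicit false

namespace Cfsg.Agent.LargeExtra.Nine.UCode

open UTree

/-- image of a code under a matrix (list of the images of the basis) -/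
def apc : List Nat → Nat → Nat
  | [], _ => 0
  | a :: L, v => Nat.xor (cond (Nat.testBit v 0) a 0) (apc L (v / 2))

/-- product: first `M`, then `L` -/
def comp (L M : List Nat) : List Nat := M.map (apc L)

def qc (v : Nat) : Bool :=
  xor (xor (Nat.testBit v 0 && Nat.testBit v 4) (Nat.testBit v 1 && Nat.testBit v 5))
    (xor (Nat.testBit v 2 && Nat.testBit v 6) (Nat.testBit v 3 && Nat.testBit v 7))

def bc (u v : Nat) : Bool := xor (qc (Nat.xor u v)) (xor (qc u) (qc v))

/-- the Siegel element of the line `⟨u, v⟩` -/
def sgc (u v : Nat) : List Nat :=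
  [1, 2, 4, 8, 16, 32, 64, 128].map fun x =>
    Nat.xor x (Nat.xor (cond (bc x u) v 0) (cond (bc x v) u 0))

/-- canonical basis of a line -/
def cl (u v : Nat) : Nat × Nat :=
  let w := Nat.xor u v
  if u < v then (if v < w then (u, v) else if u < w then (u, w) else (w, u))
  else (if u < w then (v, u) else if v < w then (v, w) else (w, v))

/-- `(u, v)` is a canonical basis of a totally singular line -/
def isLine (u v : Nat) : Bool :=
  (decide (0 < u) && decide (u < v)) && (decide (v < Nat.xor u v) && (!qc u && (!qc v && !bc u v)))

/-- check of one entry -/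
def chk1 (A : List (Nat × Nat × Nat × Nat × Nat)) (e : Nat × Nat × Nat × Nat × Nat) : Bool :=
  let g := genN.getD e.2.2.1 []
  (decide (e.2.2.1 < genN.length) &&
    A.any (fun a => a.1 == e.2.2.2.1 && a.2.1 == e.2.2.2.2)) &&
  (cl (apc g e.1) (apc g e.2.1) == (e.2.2.2.1, e.2.2.2.2) &&
    cl (apc g e.2.2.2.1) (apc g e.2.2.2.2) == (e.1, e.2.1))

/-- check of a tree -/
def chk : List (List (Nat × Nat × Nat × Nat × Nat)) → Bool
  | [] => true
  | [_] => true
  | A :: B :: T => B.all (chk1 A) && chk (B :: T)

theorem chk_T45 : chk T45 = true := by decide +kernel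
theorem chk_TA4 : chk TA4 = true := by decide +kernel
theorem chk_TA8 : chk TA8 = true := by decide +kernel
theorem chk_TA12 : chk TA12 = true := by decide +kernel
theorem chk_TB : chk TB = true := by decide +kernel

/-- keys of all entries of a tree -/
def keys (T : List (List (Nat × Nat × Nat × Nat × Nat))) : List Nat :=
  T.flatten.map fun e => 256 * e.1 + e.2.1

def maskOf : List Nat → Nat
  | [] => 0
  | k :: L => Nat.lor (Nat.shiftLeft 1 k) (maskOf L)

theorem mask_eq : maskOf (keys T45 ++ keys TA4 ++ keys TA8 ++ keys TA12 ++ keys TB) = maskAll := by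
  decide +kernel

theorem cover : ∀ u < 256, ∀ v < 256, isLine u v = true → Nat.testBit maskAll (256 * u + v) = true := by
  decide +kernel

end Cfsg.Agent.LargeExtra.Nine.UCode
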