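import Cfsg.Agent.LargeExtra.Nine.UInput
import Cfsg.Agent.LargeExtra.Nine.Frame

/-!
# S1763 case I: a frame adapted to an opposite pair of U-lines (helper71)
-/

set_option autoImplicit false

namespace Cfsg.Agent.LargeExtra.Nine.UFrame

open Cfsg.Agent.Co2Type.Quad Cfsg.Agent.LargeExtra.Nine Cfsg.Agent.LargeExtra.Nine.Frame

variable {G : Type*} [Group G] {Q : Subgroup G} {z : G}

theorem two (c : ZMod 2) : c = 0 ∨ c = 1 := by revert c; decide

theorem b_eq (h : Large Q z) (v w : h.V) : h.b v w = h.q (v + w) + h.q v + h.q w := by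
  rw [h.q_add']
  generalize h.q v = a
  generalize h.q w = b
  generalize h.b v w = c
  revert a b c; decide

theorem add_eq_zero_iff (h : Large Q z) {v w : h.V} : v + w = 0 ↔ v = w := by
  constructor
  · intro h1
    have := congrArg (· + w) h1
    simp only [add_assoc, h.add_self, add_zero, zero_add] at this
    exact this
  · rintro rfl; exact h.add_self v

theorem mem_span_two {h : Large Q z} {u v x : h.V}
    (hx : x ∈ Submodule.span (ZMod 2) ({u, v} : Set h.V)) : ∃ c d : ZMod 2, x = c • u + d • v := by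
  rw [Submodule.mem_span_pair] at hx
  obtain ⟨c, d, hcd⟩ := hx
  exact ⟨c, d, hcd.symm⟩

/-- linear functionals separate: `b(x, y) = 1`, `b(x', y) = 0` -/
theorem exists_sep (h : Large Q z) {x x' : h.V} (hx : x ≠ 0) (hne : x ≠ x') :
    ∃ y, h.b x y = 1 ∧ h.b x' y = 0 := by
  have h1 : ∃ y1, h.b x y1 = 1 := by
    by_contra hcon
    push_neg at hcon
    exact hx (h.b_nondeg fun w => (two _).resolve_right (hcon w))
  have h2 : ∃ y2, h.b (x + x') y2 = 1 := by
    by_contra hcon
    push_neg at hcon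
    exact hne ((add_eq_zero_iff h).1 (h.b_nondeg fun w => (two _).resolve_right (hcon w)))
  obtain ⟨y1, h1⟩ := h1
  obtain ⟨y2, h2⟩ := h2
  rcases two (h.b x' y1) with h3 | h3
  · exact ⟨y1, h1, h3⟩
  rw [map_add, LinearMap.add_apply] at h2
  rcases two (h.b x y2) with h4 | h4 <;> rcases two (h.b x' y2) with h5 | h5
  · rw [h4, h5] at h2; exact absurd h2 (by decide)
  · refine ⟨y1 + y2, ?_, ?_⟩
    · rw [map_add, h1, h4]; decide
    · rw [map_add, h3, h5]; decide
  · exact ⟨y2, h4, h5⟩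
  · rw [h4, h5] at h2; exact absurd h2 (by decide)

section

variable (h : Large Q z) (u v u' v' : h.V)

/-- projection to `⟨u, v, u', v'⟩^⊥` -/
noncomputable def pi (x : h.V) : h.V :=
  x + h.b x u' • u + h.b x v' • v + h.b x u • u' + h.b x v • v'

end

/-- the hypotheses on the two lines -/
structure Opp (h : Large Q z) (u v u' v' : h.V) : Prop where
  qu : h.q u = 0
  qv : h.q v = 0
  qu' : h.q u' = 0
  qv' : h.q v' = 0
  uv : h.b u v = 0
  uv' : h.b u' v' = 0
  b11 : h.b u u' = 1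
  b22 : h.b v v' = 1
  b12 : h.b u v' = 0
  b21 : h.b v u' = 0

/-- membership in `T = ⟨u, v, u', v'⟩^⊥` -/
structure InT (h : Large Q z) (u v u' v' x : h.V) : Prop where
  bu : h.b x u = 0
  bv : h.b x v = 0
  bu' : h.b x u' = 0
  bv' : h.b x v' = 0

variable {h : Large Q z} {u v u' v' : h.V}

theorem InT.add {x y : h.V} (hx : InT h u v u' v' x) (hy : InT h u v u' v' y) :
    InT h u v u' v' (x + y) := by
  constructor
  · rw [map_add, LinearMap.add_apply, hx.bu, hy.bu, add_zero]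
  · rw [map_add, LinearMap.add_apply, hx.bv, hy.bv, add_zero]
  · rw [map_add, LinearMap.add_apply, hx.bu', hy.bu', add_zero]
  · rw [map_add, LinearMap.add_apply, hx.bv', hy.bv', add_zero]

theorem InT.smul {x : h.V} (hx : InT h u v u' v' x) (c : ZMod 2) : InT h u v u' v' (c • x) := by
  constructor
  · rw [map_smul, LinearMap.smul_apply, hx.bu, smul_zero]
  · rw [map_smul, LinearMap.smul_apply, hx.bv, smul_zero]
  · rw [map_smul, LinearMap.smul_apply, hx.bu', smul_zero]
  · rw [map_smul, LinearMap.smul_apply, hx.bv', smul_zero]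

theorem pi_mem (o : Opp h u v u' v') (x : h.V) : InT h u v u' v' (pi h u v u' v' x) := by
  have e1 : h.b v u = 0 := by rw [h.b_comm]; exact o.uv
  have e2 : h.b u' u = 1 := by rw [h.b_comm]; exact o.b11
  have e3 : h.b v' u = 0 := by rw [h.b_comm]; exact o.b12
  have e4 : h.b u' v = 0 := by rw [h.b_comm]; exact o.b21
  have e5 : h.b v' v = 1 := by rw [h.b_comm]; exact o.b22
  have e6 : h.b v' u' = 0 := by rw [h.b_comm]; exact o.uv'
  have ez : ∀ c : ZMod 2, c + c = 0 := by decide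
  constructor <;>
  simp only [pi, map_add, LinearMap.add_apply, map_smul, LinearMap.smul_apply, h.b_self, o.uv, o.uv',
    o.b11, o.b22, o.b12, o.b21, e1, e2, e3, e4, e5, e6, smul_eq_mul, mul_zero, mul_one, add_zero, ez]

theorem pi_of_InT {x : h.V} (hx : InT h u v u' v' x) : pi h u v u' v' x = x := by
  simp only [pi, hx.bu, hx.bv, hx.bu', hx.bv', zero_smul, add_zero]

/-- an element of `⟨u, v⟩ ∩ T` is zero -/
theorem eq_zero_of_span (o : Opp h u v u' v') {x : h.V}
    (hx : x ∈ Submodule.span (ZMod 2) ({u, v} : Set h.V)) (hT : InT h u v u' v' x) : x = 0 := by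
  obtain ⟨c, d, rfl⟩ := mem_span_two hx
  have h1 := hT.bu'
  have h2 := hT.bv'
  simp only [map_add, LinearMap.add_apply, map_smul, LinearMap.smul_apply, o.b11, o.b22, o.b12, o.b21,
    smul_eq_mul, mul_zero, mul_one, add_zero, zero_add] at h1 h2
  rw [h1, h2, zero_smul, zero_smul, add_zero]

/-- for `x ∈ ⟨u,v⟩^⊥`: `x - pi x ∈ ⟨u, v⟩` -/
theorem sub_pi_mem {x : h.V} (h1 : h.b u x = 0) (h2 : h.b v x = 0) :
    x + pi h u v u' v' x ∈ Submodule.span (ZMod 2) ({u, v} : Set h.V) := by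
  have e1 : h.b x u = 0 := by rw [h.b_comm]; exact h1
  have e2 : h.b x v = 0 := by rw [h.b_comm]; exact h2
  have : x + pi h u v u' v' x = h.b x u' • u + h.b x v' • v := by
    simp only [pi, e1, e2, zero_smul, add_zero]
    rw [← add_assoc, ← add_assoc, h.add_self, zero_add]
  rw [this]
  exact Submodule.add_mem _ (Submodule.smul_mem _ _ (Submodule.subset_span (by simp)))
    (Submodule.smul_mem _ _ (Submodule.subset_span (by simp)))

/-- `q` is constant on cosets of `⟨u, v⟩` inside the perp -/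
theorem q_add_span (o : Opp h u v u' v') {x w : h.V} (h1 : h.b u x = 0) (h2 : h.b v x = 0)
    (hw : w ∈ Submodule.span (ZMod 2) ({u, v} : Set h.V)) : h.q (x + w) = h.q x := by
  obtain ⟨c, d, rfl⟩ := mem_span_two hw
  have e1 : h.b x u = 0 := by rw [h.b_comm]; exact h1
  have e2 : h.b x v = 0 := by rw [h.b_comm]; exact h2
  have e3 : h.q (c • u + d • v) = 0 := by
    rw [h.q_add', q_smul, q_smul, o.qu, o.qv, map_smul, map_smul, LinearMap.smul_apply, o.uv]
    simp
  rw [h.q_add', e3, map_add, map_smul, map_smul, e1, e2]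
  simp

/-- the properties of `ρ` provided by `UInput.rho` -/
structure Rho (h : Large Q z) (u v : h.V) (ρ : h.V →ₗ[ZMod 2] h.V) : Prop where
  span : ∀ x ∈ Submodule.span (ZMod 2) ({u, v} : Set h.V),
    ρ x ∈ Submodule.span (ZMod 2) ({u, v} : Set h.V)
  perp : ∀ x, h.b u x = 0 → h.b v x = 0 → h.b u (ρ x) = 0 ∧ h.b v (ρ x) = 0 ∧ h.q (ρ x) = h.q x ∧
      ρ (ρ x) + ρ x + x ∈ Submodule.span (ZMod 2) ({u, v} : Set h.V)

/-- `ρ` on `T` -/
noncomputable def rt (h : Large Q z) (u v u' v' : h.V) (ρ : h.V →ₗ[ZMod 2] h.V) (x : h.V) : h.V :=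
  pi h u v u' v' (ρ x)

section

variable {ρ : h.V →ₗ[ZMod 2] h.V}

theorem rt_mem (o : Opp h u v u' v') (x : h.V) : InT h u v u' v' (rt h u v u' v' ρ x) := pi_mem o _

theorem InT.perp {x : h.V} (hx : InT h u v u' v' x) : h.b u x = 0 ∧ h.b v x = 0 :=
  ⟨by rw [h.b_comm]; exact hx.bu, by rw [h.b_comm]; exact hx.bv⟩

/-- `ρ x ≡ rt x mod ⟨u, v⟩` -/
theorem rho_add_rt (hρ : Rho h u v ρ) {x : h.V} (hx : InT h u v u' v' x) :
    ρ x + rt h u v u' v' ρ x ∈ Submodule.span (ZMod 2) ({u, v} : Set h.V) := by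
  obtain ⟨h1, h2, -, -⟩ := hρ.perp x hx.perp.1 hx.perp.2
  exact sub_pi_mem h1 h2

theorem eq_of_add_span (o : Opp h u v u' v') {x y : h.V} (hx : InT h u v u' v' x)
    (hy : InT h u v u' v' y) (hs : x + y ∈ Submodule.span (ZMod 2) ({u, v} : Set h.V)) : x = y :=
  (add_eq_zero_iff h).1 (eq_zero_of_span o hs (hx.add hy))

theorem rt_add (o : Opp h u v u' v') (hρ : Rho h u v ρ) {x y : h.V} (hx : InT h u v u' v' x)
    (hy : InT h u v u' v' y) : rt h u v u' v' ρ (x + y) = rt h u v u' v' ρ x + rt h u v u' v' ρ y := by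
  refine eq_of_add_span o (rt_mem o _) ((rt_mem o _).add (rt_mem o _)) ?_
  have h1 := rho_add_rt (u' := u') (v' := v') hρ (hx.add hy)
  have h2 := rho_add_rt (u' := u') (v' := v') hρ hx
  have h3 := rho_add_rt (u' := u') (v' := v') hρ hy
  have h4 := Submodule.add_mem _ (Submodule.add_mem _ h1 h2) h3
  have e : ρ (x + y) + rt h u v u' v' ρ (x + y) + (ρ x + rt h u v u' v' ρ x) +
      (ρ y + rt h u v u' v' ρ y) = rt h u v u' v' ρ (x + y) +
      (rt h u v u' v' ρ x + rt h u v u' v' ρ y) := by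
    rw [map_add]
    have e1 := h.add_self (ρ x)
    have e2 := h.add_self (ρ y)
    calc _ = (ρ x + ρ x) + (ρ y + ρ y) + (rt h u v u' v' ρ (x + y) +
      (rt h u v u' v' ρ x + rt h u v u' v' ρ y)) := by abel
      _ = _ := by rw [e1, e2, zero_add, zero_add]
  rw [e] at h4
  exact h4

theorem q_rt (o : Opp h u v u' v') (hρ : Rho h u v ρ) {x : h.V} (hx : InT h u v u' v' x) :
    h.q (rt h u v u' v' ρ x) = h.q x := by
  obtain ⟨h1, h2, h3, -⟩ := hρ.perp x hx.perp.1 hx.perp.2
  have h4 := rho_add_rt (u' := u') (v' := v') hρ hx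
  have h5 := q_add_span o h1 h2 h4
  rw [← add_assoc, h.add_self, zero_add] at h5
  rw [h5, h3]

theorem rt_rt (o : Opp h u v u' v') (hρ : Rho h u v ρ) {x : h.V} (hx : InT h u v u' v' x) :
    rt h u v u' v' ρ (rt h u v u' v' ρ x) = rt h u v u' v' ρ x + x := by
  refine eq_of_add_span o (rt_mem o _) ((rt_mem o _).add hx) ?_
  obtain ⟨h1, h2, -, h3⟩ := hρ.perp x hx.perp.1 hx.perp.2
  have h4 := rho_add_rt (u' := u') (v' := v') hρ hx
  have h5 := rho_add_rt (u' := u') (v' := v') hρ (rt_mem (ρ := ρ) o x)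
  have h6 := hρ.span _ h4
  have h7 := Submodule.add_mem _ (Submodule.add_mem _ (Submodule.add_mem _ h3 h4) h5) h6
  rw [map_add] at h7
  have e : ρ (ρ x) + ρ x + x + (ρ x + rt h u v u' v' ρ x) +
      (ρ (rt h u v u' v' ρ x) + rt h u v u' v' ρ (rt h u v u' v' ρ x)) +
      (ρ (ρ x) + ρ (rt h u v u' v' ρ x)) =
      rt h u v u' v' ρ (rt h u v u' v' ρ x) + (rt h u v u' v' ρ x + x) := by
    have e1 := h.add_self (ρ (ρ x))
    have e2 := h.add_self (ρ x)
    have e3 := h.add_self (ρ (rt h u v u' v' ρ x))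
    calc _ = (ρ (ρ x) + ρ (ρ x)) + (ρ x + ρ x) + (ρ (rt h u v u' v' ρ x) + ρ (rt h u v u' v' ρ x)) +
        (rt h u v u' v' ρ (rt h u v u' v' ρ x) + (rt h u v u' v' ρ x + x)) := by abel
      _ = _ := by rw [e1, e2, e3, zero_add, zero_add, zero_add]
  rw [e] at h7
  exact h7

theorem b_rt (o : Opp h u v u' v') (hρ : Rho h u v ρ) {x y : h.V} (hx : InT h u v u' v' x)
    (hy : InT h u v u' v' y) : h.b (rt h u v u' v' ρ x) (rt h u v u' v' ρ y) = h.b x y := by
  rw [b_eq h (rt h u v u' v' ρ x), ← rt_add o hρ hx hy, q_rt o hρ hx, q_rt o hρ hy,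
    q_rt o hρ (hx.add hy), b_eq h x]

theorem rt_ne_zero (o : Opp h u v u' v') (hρ : Rho h u v ρ) {x : h.V} (hx : InT h u v u' v' x)
    (h0 : x ≠ 0) : rt h u v u' v' ρ x ≠ 0 := by
  intro h1
  have h2 := rt_rt o hρ hx
  rw [h1, zero_add] at h2
  apply h0
  rw [← h2]
  have h3 : InT h u v u' v' (0 : h.V) := by constructor <;> rw [map_zero, LinearMap.zero_apply]
  have h4 := rt_add o hρ h3 h3
  rw [add_zero] at h4
  have h5 := h.add_self (rt h u v u' v' ρ 0)
  rw [← h4] at h5
  exact h5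

theorem rt_ne_self (o : Opp h u v u' v') (hρ : Rho h u v ρ) {x : h.V} (hx : InT h u v u' v' x)
    (h0 : x ≠ 0) : rt h u v u' v' ρ x ≠ x := by
  intro h1
  have h2 := rt_rt o hρ hx
  rw [h1, h1, h.add_self] at h2
  exact h0 h2

/-- a singular nonzero vector of `T` -/
theorem exists_singular [Finite Q] (hc : Nat.card h.V = 256) (o : Opp h u v u' v')
    (hρ : Rho h u v ρ) : ∃ x, InT h u v u' v' x ∧ x ≠ 0 ∧ h.q x = 0 := by
  classical
  by_contra hcon
  push_neg at hcon
  have hall : ∀ x, InT h u v u' v' x → x ≠ 0 → h.q x = 1 := fun x hx h0 =>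
    (two _).resolve_left (hcon x hx h0)
  -- every vector is in the span of few
  have hb : ∀ x y, InT h u v u' v' x → InT h u v u' v' y → x ≠ 0 → y ≠ 0 → x ≠ y → h.b x y = 1 := by
    intro x y hx hy h1 h2 h3
    rw [b_eq h, hall _ (hx.add hy) (fun h4 => h3 ((add_eq_zero_iff h).1 h4)), hall x hx h1, hall y hy h2]
    decide
  -- there is a nonzero x in T
  have hcard : ∀ S : Finset h.V, S.card < 256 → ∃ x, x ∉ S := by
    intro S hS
    by_contra hcon
    push_neg at hcon
    haveI := Fintype.ofFinite h.V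
    have : Fintype.card h.V ≤ S.card := by
      rw [← Finset.card_univ]
      exact Finset.card_le_card fun x _ => hcon x
    rw [← Nat.card_eq_fintype_card, hc] at this
    omega
  -- the finset of all sums of W + W' + {0, x, r, x + r}
  have key : ∀ x r : h.V, ∃ y, InT h u v u' v' y ∧ y ≠ 0 ∧ y ≠ x ∧ y ≠ r ∧ y ≠ x + r := by
    intro x r
    let F : (ZMod 2 × ZMod 2) × (ZMod 2 × ZMod 2) × (ZMod 2 × ZMod 2) → h.V := fun p =>
      p.1.1 • u + p.1.2 • v + p.2.1.1 • u' + p.2.1.2 • v' + p.2.2.1 • x + p.2.2.2 • r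
    obtain ⟨y, hy⟩ := hcard (Finset.univ.image F) (by
      refine lt_of_le_of_lt Finset.card_image_le ?_
      simp [Fintype.card_prod, ZMod.card])
    have hy' : ∀ p, F p ≠ y := fun p hp => hy (Finset.mem_image.2 ⟨p, Finset.mem_univ _, hp⟩)
    have hform : ∀ w : h.V, pi h u v u' v' y = w →
        y = h.b y u' • u + h.b y v' • v + h.b y u • u' + h.b y v • v' + w := by
      intro w hw
      rw [← hw, pi]
      have e1 := h.add_self (h.b y u' • u)
      have e2 := h.add_self (h.b y v' • v)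
      have e3 := h.add_self (h.b y u • u')
      have e4 := h.add_self (h.b y v • v')
      calc y = y + 0 + 0 + 0 + 0 := by simp
        _ = y + (h.b y u' • u + h.b y u' • u) + (h.b y v' • v + h.b y v' • v) +
            (h.b y u • u' + h.b y u • u') + (h.b y v • v' + h.b y v • v') := by rw [e1, e2, e3, e4]
        _ = _ := by abel
    refine ⟨pi h u v u' v' y, pi_mem o y, ?_, ?_, ?_, ?_⟩
    · intro h1
      refine hy' ((h.b y u', h.b y v'), (h.b y u, h.b y v), (0, 0)) ?_
      show _ + (0 : ZMod 2) • x + (0 : ZMod 2) • r = y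
      rw [zero_smul, zero_smul, add_zero, add_zero]
      have := hform _ h1
      rw [add_zero] at this
      exact this.symm
    · intro h1
      refine hy' ((h.b y u', h.b y v'), (h.b y u, h.b y v), (1, 0)) ?_
      show _ + (1 : ZMod 2) • x + (0 : ZMod 2) • r = y
      rw [one_smul, zero_smul, add_zero]
      exact (hform _ h1).symm
    · intro h1
      refine hy' ((h.b y u', h.b y v'), (h.b y u, h.b y v), (0, 1)) ?_
      show _ + (0 : ZMod 2) • x + (1 : ZMod 2) • r = y
      rw [zero_smul, one_smul, add_zero]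
      exact (hform _ h1).symm
    · intro h1
      refine hy' ((h.b y u', h.b y v'), (h.b y u, h.b y v), (1, 1)) ?_
      show _ + (1 : ZMod 2) • x + (1 : ZMod 2) • r = y
      rw [one_smul, one_smul, add_assoc]
      exact (hform _ h1).symm
  obtain ⟨x, hx, hx0, -, -, -⟩ := key 0 0
  have hr := rt_mem (ρ := ρ) o x
  have hr0 := rt_ne_zero o hρ hx hx0
  have hrx := rt_ne_self o hρ hx hx0
  obtain ⟨y, hy, hy0, hyx, hyr, hyxr⟩ := key x (rt h u v u' v' ρ x)
  have h1 := hb y x hy hx hy0 hx0 hyx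
  have h2 := hb y _ hy hr hy0 hr0 hyr
  have hxr : x + rt h u v u' v' ρ x ≠ 0 := fun h' => hrx ((add_eq_zero_iff h).1 h').symm
  have h3 := hb y _ hy (hx.add hr) hy0 hxr hyxr
  rw [map_add, h1, h2] at h3
  exact absurd h3 (by decide)

/-- **the frame** -/
theorem exists_frame [Finite Q] (hc : Nat.card h.V = 256) (o : Opp h u v u' v')
    (hρ : Rho h u v ρ) : ∃ B : Fin 8 → h.V, IsFrame h B ∧ B 0 = u ∧ B 1 = v ∧ B 4 = u' ∧ B 5 = v' ∧
      rt h u v u' v' ρ (B 2) = B 3 ∧ rt h u v u' v' ρ (B 3) = B 2 + B 3 ∧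
      rt h u v u' v' ρ (B 6) = B 6 + B 7 ∧ rt h u v u' v' ρ (B 7) = B 6 ∧
      InT h u v u' v' (B 2) ∧ InT h u v u' v' (B 3) ∧ InT h u v u' v' (B 6) ∧
      InT h u v u' v' (B 7) := by
  obtain ⟨x, hx, hx0, hqx⟩ := exists_singular hc o hρ
  set r := rt h u v u' v' ρ x with hr
  have hrT : InT h u v u' v' r := rt_mem o x
  have hr0 := rt_ne_zero o hρ hx hx0
  have hrx := rt_ne_self o hρ hx hx0
  have hqr : h.q r = 0 := by rw [hr, q_rt o hρ hx, hqx]
  have hrr : rt h u v u' v' ρ r = r + x := rt_rt o hρ hx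
  have hxr : h.b x r = 0 := by
    rw [b_eq h, add_comm x r, ← hrr, q_rt o hρ hrT, hqr, hqx]; decide
  obtain ⟨y0, hy1, hy2⟩ := exists_sep h hx0 (Ne.symm hrx)
  have hpi : ∀ w, InT h u v u' v' w → ∀ y, h.b w (pi h u v u' v' y) = h.b w y := by
    intro w hw y
    simp only [pi, map_add, map_smul, hw.bu, hw.bv, hw.bu', hw.bv', smul_zero, add_zero]
  set y1 := pi h u v u' v' y0 with hy1def
  have hy1T : InT h u v u' v' y1 := pi_mem o y0
  have hxy1 : h.b x y1 = 1 := by rw [hy1def, hpi x hx, hy1]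
  have hry1 : h.b r y1 = 0 := by rw [hy1def, hpi r hrT, hy2]
  set f := y1 + h.q y1 • x with hf
  have hfT : InT h u v u' v' f := hy1T.add (hx.smul _)
  have hxf : h.b x f = 1 := by rw [hf, map_add, map_smul, h.b_self, hxy1, smul_zero, add_zero]
  have hrf : h.b r f = 0 := by
    rw [hf, map_add, map_smul, hry1, h.b_comm r x, hxr, smul_zero, add_zero]
  have hqf : h.q f = 0 := by
    rw [hf, h.q_add', q_smul, hqx, map_smul, h.b_comm y1 x, hxy1]
    generalize h.q y1 = c
    revert c; decide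
  set s := rt h u v u' v' ρ f with hs
  have hsT : InT h u v u' v' s := rt_mem o f
  have hqs : h.q s = 0 := by rw [hs, q_rt o hρ hfT, hqf]
  have hss : rt h u v u' v' ρ s = s + f := rt_rt o hρ hfT
  have hfs : h.b f s = 0 := by
    rw [b_eq h, add_comm f s, ← hss, q_rt o hρ hsT, hqs, hqf]; decide
  set g := f + s with hg
  have hgT : InT h u v u' v' g := hfT.add hsT
  have hgs : rt h u v u' v' ρ g = f := by
    rw [hg, rt_add o hρ hfT hsT, ← hs, hss, ← add_assoc, h.add_self, zero_add]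
  have hqg : h.q g = 0 := by rw [hg, h.q_add', hqf, hqs, hfs]; decide
  have hfg : h.b f g = 0 := by rw [hg, map_add, h.b_self, hfs, add_zero]
  -- `b x s = b r (rt s) = b r (s + f)`, `b r s = b x f = 1`
  have hrs : h.b r s = 1 := by rw [hr, hs, b_rt o hρ hx hfT, hxf]
  have hxs : h.b x s = 1 := by
    have h1 := b_rt o hρ hx hsT
    rw [← hr, hss, map_add, hrs, hrf, add_zero] at h1
    exact h1.symm
  have hxg : h.b x g = 0 := by rw [hg, map_add, hxf, hxs]; decide
  have hrg : h.b r g = 1 := by rw [hg, map_add, hrf, hrs]; decide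
  refine ⟨![u, v, x, r, u', v', f, g], ⟨?_, ?_⟩, rfl, rfl, rfl, rfl, ?_, ?_, ?_, ?_, hx, hrT, hfT, hgT⟩
  · intro i
    fin_cases i
    · exact o.qu
    · exact o.qv
    · exact hqx
    · exact hqr
    · exact o.qu'
    · exact o.qv'
    · exact hqf
    · exact hqg
  · have e1 : h.b v u = 0 := by rw [h.b_comm]; exact o.uv
    have e2 : h.b u' u = 1 := by rw [h.b_comm]; exact o.b11
    have e3 : h.b v' u = 0 := by rw [h.b_comm]; exact o.b12
    have e4 : h.b u' v = 0 := by rw [h.b_comm]; exact o.b21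
    have e5 : h.b v' v = 1 := by rw [h.b_comm]; exact o.b22
    have e6 : h.b v' u' = 0 := by rw [h.b_comm]; exact o.uv'
    have c1 : h.b r x = 0 := by rw [h.b_comm]; exact hxr
    have c2 : h.b f x = 1 := by rw [h.b_comm]; exact hxf
    have c3 : h.b g x = 0 := by rw [h.b_comm]; exact hxg
    have c4 : h.b f r = 0 := by rw [h.b_comm]; exact hrf
    have c5 : h.b g r = 1 := by rw [h.b_comm]; exact hrg
    have c6 : h.b g f = 0 := by rw [h.b_comm]; exact hfg
    have tx : ∀ w, InT h u v u' v' w → h.b u w = 0 ∧ h.b v w = 0 ∧ h.b u' w = 0 ∧ h.b v' w = 0 := by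
      intro w hw
      exact ⟨by rw [h.b_comm]; exact hw.bu, by rw [h.b_comm]; exact hw.bv,
        by rw [h.b_comm]; exact hw.bu', by rw [h.b_comm]; exact hw.bv'⟩
    obtain ⟨x1, x2, x3, x4⟩ := tx x hx
    obtain ⟨r1, r2, r3, r4⟩ := tx r hrT
    obtain ⟨f1, f2, f3, f4⟩ := tx f hfT
    obtain ⟨g1, g2, g3, g4⟩ := tx g hgT
    intro i j
    fin_cases i <;> fin_cases j <;>
    first
      | exact h.b_self _
      | exact o.uv
      | exact o.uv'
      | exact o.b11
      | exact o.b22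
      | exact o.b12
      | exact o.b21
      | assumption
      | exact hx.bu
      | exact hx.bv
      | exact hx.bu'
      | exact hx.bv'
      | exact hrT.bu
      | exact hrT.bv
      | exact hrT.bu'
      | exact hrT.bv'
      | exact hfT.bu
      | exact hfT.bv
      | exact hfT.bu'
      | exact hfT.bv'
      | exact hgT.bu
      | exact hgT.bv
      | exact hgT.bu'
      | exact hgT.bv'
  · rfl
  · show rt h u v u' v' ρ r = x + r
    rw [hrr, add_comm]
  · show rt h u v u' v' ρ f = f + g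
    rw [hg, ← add_assoc, h.add_self, zero_add]
  · exact hgs

end

end Cfsg.Agent.LargeExtra.Nine.UFrame
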